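import Groth.Agent.Ega4B.ElimAlg

/-!
# Normal crossing form of a function and quadratic transforms: the local algebra

* `NC s`: the maximal ideal is `(u, v)` and `s = unit * u ^ a * v ^ b`; `NC1 s`: moreover `b = 0`.
* `trichotomy`: along a quadratic transform `φ : A → B` of the maximal ideal `(u, v)`, an `s` with `NC s` has
  `NC (φ s)`, and `NC1 (φ s)` unless `φ v = φ u * T` or `φ u = φ v * T` with `T` in the maximal ideal.
-/

set_option autoImplicit false
universe u v

namespace K111.NCAlg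

open IsLocalRing Polynomial Groth.Agent.Ega4B.ElimAlg

/-- `s` has normal crossing form. -/
def NC {A : Type u} [CommRing A] [IsLocalRing A] (s : A) : Prop :=
  ∃ (x y c : A) (a b : ℕ), maximalIdeal A = Ideal.span {x, y} ∧ IsUnit c ∧ s = c * x ^ a * y ^ b

/-- `s` is a unit times a power of one parameter. -/
def NC1 {A : Type u} [CommRing A] [IsLocalRing A] (s : A) : Prop :=
  ∃ (x y c : A) (a : ℕ), maximalIdeal A = Ideal.span {x, y} ∧ IsUnit c ∧ s = c * x ^ a

theorem NC1.nc {A : Type u} [CommRing A] [IsLocalRing A] {s : A} (h : NC1 s) : NC s := by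
  obtain ⟨x, y, c, a, hm, hc, hs⟩ := h
  exact ⟨x, y, c, a, 0, hm, hc, by rw [pow_zero, mul_one, hs]⟩

theorem NC.map_equiv {A : Type u} {B : Type v} [CommRing A] [IsLocalRing A] [CommRing B] [IsLocalRing B]
    (e : A ≃+* B) {s : A} (h : NC s) : NC (e s) := by
  obtain ⟨x, y, c, a, b, hm, hc, hs⟩ := h
  refine ⟨e x, e y, e c, a, b, ?_, hc.map e, by rw [hs, map_mul, map_mul, map_pow, map_pow]⟩
  rw [← IsLocalRing.map_ringEquiv_maximalIdeal e, hm, Ideal.map_span, Set.image_pair]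

theorem NC1.map_equiv {A : Type u} {B : Type v} [CommRing A] [IsLocalRing A] [CommRing B] [IsLocalRing B]
    (e : A ≃+* B) {s : A} (h : NC1 s) : NC1 (e s) := by
  obtain ⟨x, y, c, a, hm, hc, hs⟩ := h
  refine ⟨e x, e y, e c, a, ?_, hc.map e, by rw [hs, map_mul, map_pow]⟩
  rw [← IsLocalRing.map_ringEquiv_maximalIdeal e, hm, Ideal.map_span, Set.image_pair]

section

variable {A : Type u} {B : Type v} [CommRing A] [CommRing B] [IsLocalRing A]

/-- Every element is a fraction of polynomials in `T`. -/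
theorem exists_poly_frac (φ : A →+* B) {x y : A} (hm : maximalIdeal A = Ideal.span {x, y})
    {T : B} (hy : φ y = φ x * T) (hx0 : φ x ∈ nonZeroDivisors B)
    (hB : ∀ b : B, ∃ n : ℕ, ∃ s₁ ∈ maximalIdeal A ^ n, ∃ s₂ ∈ maximalIdeal A ^ n,
      φ s₂ * b = φ s₁ ∧ (maximalIdeal A ^ n).map φ = Ideal.span {φ s₂}) (b : B) :
    ∃ p q : Polynomial A, IsUnit (q.eval₂ φ T) ∧ q.eval₂ φ T * b = p.eval₂ φ T := by
  obtain ⟨n, s₁, hs₁, s₂, hs₂, hs, hsp⟩ := hB b
  have hxn : φ x ^ n ∈ nonZeroDivisors B := pow_mem hx0 n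
  rw [hm] at hs₁ hs₂
  obtain ⟨S₁, hS₁, rfl⟩ := exists_hsum x y n hs₁
  obtain ⟨S₂, hS₂, rfl⟩ := exists_hsum x y n hs₂
  rw [map_hsum φ hy hS₁, map_hsum φ hy hS₂, mul_assoc] at hs
  have h1 : S₂.eval₂ φ T * b = S₁.eval₂ φ T := (mul_cancel_left_mem_nonZeroDivisors hxn).1 hs
  have h2 : φ (x ^ n) ∈ (maximalIdeal A ^ n).map φ := by
    refine Ideal.mem_map_of_mem φ (Ideal.pow_mem_pow ?_ n)
    rw [hm]
    exact Ideal.subset_span (by simp)
  rw [hsp, Ideal.mem_span_singleton, map_hsum φ hy hS₂] at h2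
  obtain ⟨e, he⟩ := h2
  have h3 : S₂.eval₂ φ T * e = 1 := by
    apply (mul_cancel_left_mem_nonZeroDivisors hxn).1
    rw [← mul_assoc, ← he, map_pow, mul_one]
  exact ⟨S₁, S₂, IsUnit.of_mul_eq_one _ h3, h1⟩

theorem map_maximalIdeal_le (φ : A →+* B) {x y : A} (hm : maximalIdeal A = Ideal.span {x, y})
    {T : B} (hy : φ y = φ x * T) : (maximalIdeal A).map φ ≤ Ideal.span {φ x} := by
  rw [hm, Ideal.map_span, Set.image_pair, Ideal.span_le]
  rintro z (rfl | rfl)
  · exact Ideal.subset_span rfl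
  · rw [SetLike.mem_coe, Ideal.mem_span_singleton, hy]
    exact dvd_mul_right _ _

/-- A polynomial with coefficients in the maximal ideal has its value in `(φ x)`. -/
theorem eval₂_mem (φ : A →+* B) {x y : A} (hm : maximalIdeal A = Ideal.span {x, y})
    {T : B} (hy : φ y = φ x * T) (p : Polynomial A) (hp : p.map (residue A) = 0) :
    p.eval₂ φ T ∈ Ideal.span {φ x} := by
  rw [eval₂_eq_sum_range]
  refine Ideal.sum_mem _ fun i _ => Ideal.mul_mem_right _ _ ?_
  apply map_maximalIdeal_le φ hm hy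
  apply Ideal.mem_map_of_mem
  rw [← residue_eq_zero_iff, ← coeff_map, hp, coeff_zero]

variable [IsLocalRing B]

/-- The maximal ideal of a quadratic transform is generated by the exceptional parameter and another element. -/
theorem exists_maximalIdeal_eq (φ : A →+* B) [IsLocalHom φ] {x y : A} (hm : maximalIdeal A = Ideal.span {x, y})
    {T : B} (hy : φ y = φ x * T) (hx0 : φ x ∈ nonZeroDivisors B)
    (hB : ∀ b : B, ∃ n : ℕ, ∃ s₁ ∈ maximalIdeal A ^ n, ∃ s₂ ∈ maximalIdeal A ^ n,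
      φ s₂ * b = φ s₁ ∧ (maximalIdeal A ^ n).map φ = Ideal.span {φ s₂}) :
    ∃ w, maximalIdeal B = Ideal.span {φ x, w} := by
  have hkill : ∀ a ∈ maximalIdeal A, ((residue B).comp φ) a = 0 := by
    intro a ha
    rw [RingHom.comp_apply, residue_eq_zero_iff, mem_maximalIdeal, mem_nonunits_iff]
    intro h
    exact ((mem_maximalIdeal _).1 ha) ((isUnit_map_iff φ a).1 h)
  let σ : ResidueField A →+* ResidueField B := Ideal.Quotient.lift (maximalIdeal A) _ hkill
  have hσ : σ.comp (residue A) = (residue B).comp φ := Ideal.Quotient.lift_comp_mk _ _ hkill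
  let ψ : Polynomial (ResidueField A) →+* ResidueField B := eval₂RingHom σ (residue B T)
  have hψ : ∀ q : Polynomial A, ψ (q.map (residue A)) = residue B (q.eval₂ φ T) := by
    intro q
    change (q.map (residue A)).eval₂ σ (residue B T) = _
    rw [eval₂_map, hσ, hom_eval₂]
  obtain ⟨h', hh'⟩ := (IsPrincipalIdealRing.principal (RingHom.ker ψ)).principal
  obtain ⟨h, rfl⟩ := Polynomial.map_surjective (residue A) residue_surjective h'
  have hker : ∀ q : Polynomial A, q.eval₂ φ T ∈ maximalIdeal B → ∃ r : Polynomial A,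
      (q - h * r).map (residue A) = 0 := by
    intro q hq
    have h1 : q.map (residue A) ∈ RingHom.ker ψ := by
      rw [RingHom.mem_ker, hψ, residue_eq_zero_iff]
      exact hq
    rw [hh', Ideal.submodule_span_eq, Ideal.mem_span_singleton] at h1
    obtain ⟨r', hr'⟩ := h1
    obtain ⟨r, rfl⟩ := Polynomial.map_surjective (residue A) residue_surjective r'
    exact ⟨r, by rw [Polynomial.map_sub, Polynomial.map_mul, hr', sub_self]⟩
  refine ⟨h.eval₂ φ T, le_antisymm ?_ ?_⟩
  · intro b hb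
    obtain ⟨p, q, hq, hqb⟩ := exists_poly_frac φ hm hy hx0 hB b
    have h1 : p.eval₂ φ T ∈ maximalIdeal B := by
      rw [← hqb]
      exact Ideal.mul_mem_left _ _ hb
    obtain ⟨r, hr⟩ := hker p h1
    have h2 := eval₂_mem φ hm hy _ hr
    rw [eval₂_sub, eval₂_mul] at h2
    have h3 : q.eval₂ φ T * b ∈ Ideal.span {φ x, h.eval₂ φ T} := by
      rw [hqb, ← sub_add_cancel (p.eval₂ φ T) (h.eval₂ φ T * r.eval₂ φ T)]
      refine Ideal.add_mem _ (Ideal.span_mono (by simp) h2) ?_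
      exact Ideal.mul_mem_right _ _ (Ideal.subset_span (by simp))
    obtain ⟨q', hq'⟩ := hq.exists_left_inv
    have h4 := Ideal.mul_mem_left _ q' h3
    rwa [← mul_assoc, hq', one_mul] at h4
  · rw [Ideal.span_le]
    rintro z (rfl | rfl)
    · have h1 : x ∈ maximalIdeal A := by
        rw [hm]
        exact Ideal.subset_span (by simp)
      have h2 := hkill x h1
      rwa [RingHom.comp_apply, residue_eq_zero_iff] at h2
    · have h1 : h.map (residue A) ∈ RingHom.ker ψ := by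
        rw [hh']
        exact Submodule.mem_span_singleton_self _
      rwa [RingHom.mem_ker, hψ, residue_eq_zero_iff] at h1

/-- At the origin of the exceptional curve the parameters are `x` and `T = y / x`. -/
theorem maximalIdeal_eq (φ : A →+* B) [IsLocalHom φ] {x y : A} (hm : maximalIdeal A = Ideal.span {x, y})
    {T : B} (hy : φ y = φ x * T) (hx0 : φ x ∈ nonZeroDivisors B)
    (hB : ∀ b : B, ∃ n : ℕ, ∃ s₁ ∈ maximalIdeal A ^ n, ∃ s₂ ∈ maximalIdeal A ^ n,
      φ s₂ * b = φ s₁ ∧ (maximalIdeal A ^ n).map φ = Ideal.span {φ s₂}) (hT : T ∈ maximalIdeal B) :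
    maximalIdeal B = Ideal.span {φ x, T} := by
  have hx : φ x ∈ maximalIdeal B := by
    rw [mem_maximalIdeal, mem_nonunits_iff]
    intro h
    have h1 : x ∈ maximalIdeal A := by
      rw [hm]
      exact Ideal.subset_span (by simp)
    exact ((mem_maximalIdeal _).1 h1) ((isUnit_map_iff φ x).1 h)
  apply le_antisymm
  · intro b hb
    obtain ⟨p, q, hq, hqb⟩ := exists_poly_frac φ hm hy hx0 hB b
    have h1 : p.eval₂ φ T ∈ maximalIdeal B := by
      rw [← hqb]
      exact Ideal.mul_mem_left _ _ hb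
    have h2 : p.eval₂ φ T = p.divX.eval₂ φ T * T + φ (p.coeff 0) := by
      conv_lhs => rw [← divX_mul_X_add p]
      rw [eval₂_add, eval₂_mul, eval₂_X, eval₂_C]
    have h3 : φ (p.coeff 0) ∈ maximalIdeal B := by
      rw [h2] at h1
      exact (Ideal.add_mem_iff_right _ (Ideal.mul_mem_left _ _ hT)).1 h1
    have h4 : p.coeff 0 ∈ maximalIdeal A := by
      rw [mem_maximalIdeal, mem_nonunits_iff]
      intro h
      exact ((mem_maximalIdeal _).1 h3) (h.map φ)
    have h5 : q.eval₂ φ T * b ∈ Ideal.span {φ x, T} := by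
      rw [hqb, h2]
      refine Ideal.add_mem _ (Ideal.mul_mem_left _ _ (Ideal.subset_span (by simp))) ?_
      exact Ideal.span_mono (by simp) (map_maximalIdeal_le φ hm hy (Ideal.mem_map_of_mem φ h4))
    obtain ⟨q', hq'⟩ := hq.exists_left_inv
    have h6 := Ideal.mul_mem_left _ q' h5
    rwa [← mul_assoc, hq', one_mul] at h6
  · rw [Ideal.span_le]
    rintro z (rfl | rfl)
    · exact hx
    · exact hT

/-- One of the two parameters divides the other one. -/
theorem exists_dvd (φ : A →+* B) {x y : A} (hm : maximalIdeal A = Ideal.span {x, y})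
    (hprin : ∃ d ∈ nonZeroDivisors B, (maximalIdeal A).map φ = Ideal.span {d}) :
    (φ x ∈ nonZeroDivisors B ∧ ∃ T, φ y = φ x * T) ∨ (φ y ∈ nonZeroDivisors B ∧ ∃ T, φ x = φ y * T) := by
  obtain ⟨d, hdn, hd⟩ := hprin
  rw [hm, Ideal.map_span, Set.image_pair] at hd
  have h1 : φ x ∈ Ideal.span {d} := hd ▸ Ideal.subset_span (by simp)
  have h2 : φ y ∈ Ideal.span {d} := hd ▸ Ideal.subset_span (by simp)
  have h3 : d ∈ Ideal.span {φ x, φ y} := hd ▸ Ideal.mem_span_singleton_self d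
  rw [Ideal.mem_span_singleton] at h1 h2
  rw [Ideal.mem_span_pair] at h3
  obtain ⟨a, ha⟩ := h1
  obtain ⟨b, hb⟩ := h2
  obtain ⟨s, t, hst⟩ := h3
  have h4 : s * a + t * b = 1 := by
    apply (mul_cancel_left_mem_nonZeroDivisors hdn).1
    rw [mul_one]
    conv_rhs => rw [← hst, ha, hb]
    ring
  rcases IsLocalRing.isUnit_or_isUnit_of_add_one h4 with h5 | h5
  · obtain ⟨u, rfl⟩ := isUnit_of_mul_isUnit_right h5
    refine Or.inl ⟨?_, ↑u⁻¹ * b, ?_⟩
    · rw [ha]
      exact mul_mem hdn u.isUnit.mem_nonZeroDivisors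
    · rw [ha, hb, mul_assoc, ← mul_assoc (u : B), Units.mul_inv, one_mul]
  · obtain ⟨u, rfl⟩ := isUnit_of_mul_isUnit_right h5
    refine Or.inr ⟨?_, ↑u⁻¹ * a, ?_⟩
    · rw [hb]
      exact mul_mem hdn u.isUnit.mem_nonZeroDivisors
    · rw [ha, hb, mul_assoc, ← mul_assoc (u : B), Units.mul_inv, one_mul]

/-- The transform of a function in normal crossing form. -/
theorem trichotomy (φ : A →+* B) [IsLocalHom φ] {x y c : A} {a b : ℕ}
    (hm : maximalIdeal A = Ideal.span {x, y}) (hc : IsUnit c)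
    (hprin : ∃ d ∈ nonZeroDivisors B, (maximalIdeal A).map φ = Ideal.span {d})
    (hB : ∀ b : B, ∃ n : ℕ, ∃ s₁ ∈ maximalIdeal A ^ n, ∃ s₂ ∈ maximalIdeal A ^ n,
      φ s₂ * b = φ s₁ ∧ (maximalIdeal A ^ n).map φ = Ideal.span {φ s₂}) :
    NC (φ (c * x ^ a * y ^ b)) ∧ (NC1 (φ (c * x ^ a * y ^ b)) ∨
      (φ x ∈ nonZeroDivisors B ∧ ∃ T ∈ maximalIdeal B, φ y = φ x * T) ∨
      (φ y ∈ nonZeroDivisors B ∧ ∃ T ∈ maximalIdeal B, φ x = φ y * T)) := by
  rcases exists_dvd φ hm hprin with ⟨hx0, T, hT⟩ | ⟨hy0, T, hT⟩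
  · by_cases hTm : T ∈ maximalIdeal B
    · refine ⟨⟨φ x, T, φ c, a + b, b, maximalIdeal_eq φ hm hT hx0 hB hTm, hc.map φ, ?_⟩,
        Or.inr (Or.inl ⟨hx0, T, hTm, hT⟩)⟩
      rw [map_mul, map_mul, map_pow, map_pow, hT]
      ring
    · have hTu : IsUnit T := by
        by_contra h
        exact hTm ((mem_maximalIdeal _).2 h)
      obtain ⟨w, hw⟩ := exists_maximalIdeal_eq φ hm hT hx0 hB
      have h1 : NC1 (φ (c * x ^ a * y ^ b)) := by
        refine ⟨φ x, w, φ c * T ^ b, a + b, hw, (hc.map φ).mul (hTu.pow b), ?_⟩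
        rw [map_mul, map_mul, map_pow, map_pow, hT]
        ring
      exact ⟨h1.nc, Or.inl h1⟩
  · have hm' : maximalIdeal A = Ideal.span {y, x} := by rw [hm, Set.pair_comm]
    by_cases hTm : T ∈ maximalIdeal B
    · refine ⟨⟨φ y, T, φ c, a + b, a, maximalIdeal_eq φ hm' hT hy0 hB hTm, hc.map φ, ?_⟩,
        Or.inr (Or.inr ⟨hy0, T, hTm, hT⟩)⟩
      rw [map_mul, map_mul, map_pow, map_pow, hT]
      ring
    · have hTu : IsUnit T := by
        by_contra h
        exact hTm ((mem_maximalIdeal _).2 h)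
      obtain ⟨w, hw⟩ := exists_maximalIdeal_eq φ hm' hT hy0 hB
      have h1 : NC1 (φ (c * x ^ a * y ^ b)) := by
        refine ⟨φ y, w, φ c * T ^ a, a + b, hw, (hc.map φ).mul (hTu.pow a), ?_⟩
        rw [map_mul, map_mul, map_pow, map_pow, hT]
        ring
      exact ⟨h1.nc, Or.inl h1⟩

end

end K111.NCAlg
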