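import Groth.Agent.Models.K111.NCAlg
import Groth.Agent.Ega4B.BlowStalk
import Groth.Agent.Dix.PointIdeal

/-!
# Normal crossing form under the blow-up of a closed point

For the blow-up `b : W ⟶ Y` of an ideal `J` with `J_y = 𝔪_y = (u, v)` and a function `s = unit * u ^ a * v ^ b` at `y`:
`nc_of_blowUp`: at all points above `y` the function `s` has normal crossing form; `exists_two`: at all but at most two
points above `y` it is a unit times a power of one parameter.
-/

set_option autoImplicit false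
universe u

open CategoryTheory CategoryTheory.Limits AlgebraicGeometry IsLocalRing
open Groth.Agent.Divis.CartierBasic Groth.Agent.Divis.BlowChart2

namespace K111.NCBlow

open K111.NCAlg

/-- The local homomorphism `O_{Y,y} → O_{W,w}` for `b w = y`. -/
noncomputable def loc {W Y : Scheme.{u}} (b : W ⟶ Y) (y : Y) (w : W) (h : b w = y) :
    Y.presheaf.stalk y →+* W.presheaf.stalk w :=
  (Y.presheaf.stalkSpecializes (specializes_of_eq h) ≫ b.stalkMap w).hom

theorem loc_rfl {W Y : Scheme.{u}} (b : W ⟶ Y) (w : W) : loc b (b w) w rfl = (b.stalkMap w).hom := by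
  unfold loc
  rw [TopCat.Presheaf.stalkSpecializes_refl, Category.id_comp]

instance isLocalHom_loc {W Y : Scheme.{u}} (b : W ⟶ Y) (y : Y) (w : W) (h : b w = y) : IsLocalHom (loc b y w h) := by
  subst h
  rw [loc_rfl]
  infer_instance

theorem loc_germ {W Y : Scheme.{u}} (b : W ⟶ Y) (y : Y) (w : W) (h : b w = y) (U : Y.Opens) (hy : y ∈ U)
    (V : W.Opens) (hw : w ∈ V) (e : V ≤ b ⁻¹ᵁ U) (s : Γ(Y, U)) :
    loc b y w h (Y.presheaf.germ U y hy s) = W.presheaf.germ V w hw ((b.appLE U V e).hom s) := by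
  subst h
  rw [loc_rfl]
  have h2 : Y.presheaf.germ U (b w) hy ≫ b.stalkMap w = b.appLE U V e ≫ W.presheaf.germ V w hw := by
    rw [Scheme.Hom.germ_stalkMap, Scheme.Hom.appLE, Category.assoc, TopCat.Presheaf.germ_res]
  exact congr($(congrArg CommRingCat.Hom.hom h2) s)

theorem loc_germ_top {W Y : Scheme.{u}} (b : W ⟶ Y) (y : Y) (w : W) (h : b w = y) (s : Γ(Y, ⊤)) :
    loc b y w h (Y.presheaf.germ ⊤ y trivial s) = W.presheaf.germ ⊤ w trivial (b.appTop s) := by
  rw [loc_germ b y w h ⊤ trivial ⊤ trivial le_rfl s]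
  congr 1
  have h1 : b.appLE ⊤ ⊤ le_rfl = b.appTop := Scheme.Hom.appLE_eq_app b (U := ⊤)
  rw [h1]

theorem stalkIdeal_comap' {W Y : Scheme.{u}} (b : W ⟶ Y) (J : Y.IdealSheafData) (y : Y) (w : W) (h : b w = y) :
    stalkIdeal (J.comap b) w = (stalkIdeal J y).map (loc b y w h) := by
  subst h
  rw [loc_rfl, Groth.Agent.Divis.CartierStalk.stalkIdeal_comap]

section

variable {W Y : Scheme.{u}} {b : W ⟶ Y} {J : Y.IdealSheafData} (hb : BlowUp.IsBlowUp b J) {y : Y}
  (hJ : stalkIdeal J y = maximalIdeal (Y.presheaf.stalk y))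

include hb hJ

theorem exists_frac (w : W) (h : b w = y) (c : W.presheaf.stalk w) :
    ∃ n : ℕ, ∃ s₁ ∈ maximalIdeal (Y.presheaf.stalk y) ^ n, ∃ s₂ ∈ maximalIdeal (Y.presheaf.stalk y) ^ n,
      loc b y w h s₂ * c = loc b y w h s₁ ∧
      (maximalIdeal (Y.presheaf.stalk y) ^ n).map (loc b y w h) = Ideal.span {loc b y w h s₂} := by
  subst h
  rw [loc_rfl, ← hJ]
  exact Groth.Agent.Ega4B.BlowStalk.exists_frac hb w c

theorem exists_map_eq_span (w : W) (h : b w = y) :
    ∃ d ∈ nonZeroDivisors (W.presheaf.stalk w),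
      (maximalIdeal (Y.presheaf.stalk y)).map (loc b y w h) = Ideal.span {d} := by
  subst h
  rw [loc_rfl, ← hJ]
  obtain ⟨d, hd0, hd⟩ := exists_stalkIdeal_eq_span hb.1 w
  exact ⟨d, hd0, by rw [← Groth.Agent.Divis.CartierStalk.stalkIdeal_comap, hd]⟩

/-- **Normal crossing form persists** under the blow-up of a closed point. -/
theorem nc_of_blowUp (s : Γ(Y, ⊤)) (hs : NC (Y.presheaf.germ ⊤ y trivial s)) (w : W) (h : b w = y) :
    NC (W.presheaf.germ ⊤ w trivial (b.appTop s)) := by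
  obtain ⟨x, z, c, m, n, hm, hc, hs⟩ := hs
  rw [← loc_germ_top b y w h, hs]
  exact (trichotomy (loc b y w h) hm hc (exists_map_eq_span hb hJ w h) (exists_frac hb hJ w h)).1

omit hJ in
theorem mem_chart_of_stalk (U : Y.affineOpens) (a : Γ(Y, U.1)) (w : W) (h : b w = y)
    (hy : y ∈ U.1) (ha : a ∈ J.ideal U)
    (hw : (stalkIdeal J y).map (loc b y w h) = Ideal.span {loc b y w h (Y.presheaf.germ U.1 y hy a)}) :
    w ∈ chart b J U a := by
  subst h
  obtain ⟨a', ha', hwV⟩ := exists_mem_chart_of_span b J U hb.1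
    (Submodule.span_eq (J.ideal U)).symm w hy
  replace ha' : a' ∈ J.ideal U := ha'
  have hV := isAffineOpen_chart b J U hb ha'
  have hVU := chart_le b J U a'
  set V := chart b J U a' with hVdef
  obtain ⟨g, hg⟩ := exists_eq_pow_mul_appLE b J U hb ha' 1 (m := a) (by rwa [pow_one])
  rw [pow_one] at hg
  replace hg : (b.appLE U.1 V hVU).hom a = (b.appLE U.1 V hVU).hom a' * g := hg
  have hreg : (b.appLE U.1 V hVU).hom a' ∈ nonZeroDivisors Γ(W, V) := appLE_chart_mem_nonZeroDivisors b J U hb ha'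
  -- `g` is a unit at `w`
  have hgw : IsUnit (W.presheaf.germ V w hwV g) := by
    have h1 : loc b (b w) w rfl (Y.presheaf.germ U.1 (b w) hy a') ∈
        (stalkIdeal J (b w)).map (loc b (b w) w rfl) := by
      apply Ideal.mem_map_of_mem
      rw [stalkIdeal_eq J U hy]
      exact Ideal.mem_map_of_mem _ ha'
    rw [hw, Ideal.mem_span_singleton] at h1
    obtain ⟨e, he⟩ := h1
    rw [loc_germ b (b w) w rfl U.1 hy V hwV hVU, loc_germ b (b w) w rfl U.1 hy V hwV hVU, hg, map_mul, mul_assoc] at he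
    have h2 : W.presheaf.germ V w hwV ((b.appLE U.1 V hVU).hom a') ∈ nonZeroDivisors (W.presheaf.stalk w) := by
      let := W.presheaf.algebra_section_stalk (⟨w, hwV⟩ : V)
      have := hV.isLocalization_stalk ⟨w, hwV⟩
      exact IsLocalization.map_nonZeroDivisors_le (hV.primeIdealOf ⟨w, hwV⟩).asIdeal.primeCompl
        (W.presheaf.stalk w) ⟨_, hreg, rfl⟩
    have h3 : W.presheaf.germ V w hwV g * e = 1 := by
      apply (mul_cancel_left_mem_nonZeroDivisors h2).1
      rw [mul_one]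
      exact he.symm
    exact IsUnit.of_mul_eq_one _ h3
  have hwD : w ∈ W.basicOpen g := (W.mem_basicOpen g w hwV).2 hgw
  have hDV : W.basicOpen g ≤ V := W.basicOpen_le g
  have hD : IsAffineOpen (W.basicOpen g) := hV.basicOpen g
  refine (mem_chart_iff b J U a w).2 ⟨⟨W.basicOpen g, hD⟩, hDV.trans hVU, hwD, ?_⟩
  have h1 : (J.comap b).ideal ⟨V, hV⟩ = Ideal.span {(b.appLE U.1 V hVU).hom a'} := ideal_chart b J U a' hV
  have h2 := (J.comap b).map_ideal (U := ⟨W.basicOpen g, hD⟩) (V := ⟨V, hV⟩) hDV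
  rw [← h2, h1, Ideal.map_span, Set.image_singleton]
  have h3 : IsUnit ((W.presheaf.map (homOfLE hDV).op).hom g) := by
    exact W.toRingedSpace.isUnit_res_basicOpen g
  have h4 : (b.appLE U.1 (W.basicOpen g) (hDV.trans hVU)).hom a =
      (W.presheaf.map (homOfLE hDV).op).hom ((b.appLE U.1 V hVU).hom a') *
        (W.presheaf.map (homOfLE hDV).op).hom g := by
    rw [← map_mul, ← hg]
    have h5 : b.appLE U.1 V hVU ≫ W.presheaf.map (homOfLE hDV).op = b.appLE U.1 (W.basicOpen g) (hDV.trans hVU) :=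
      Scheme.Hom.appLE_map _ _ _
    exact congr($(congrArg CommRingCat.Hom.hom h5) a).symm
  change _ = Ideal.span {(b.appLE U.1 (W.basicOpen g) (hDV.trans hVU)).hom a}
  rw [h4]
  exact (Ideal.span_singleton_mul_right_unit h3 _).symm

/-- There is at most one point above `y` at which `v / u` is defined and vanishes. -/
theorem eq_of_dvd {x z : Y.presheaf.stalk y} (hm : maximalIdeal (Y.presheaf.stalk y) = Ideal.span {x, z})
    (w w' : W) (h : b w = y) (h' : b w' = y)
    (hx : loc b y w h x ∈ nonZeroDivisors (W.presheaf.stalk w))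
    (hx' : loc b y w' h' x ∈ nonZeroDivisors (W.presheaf.stalk w'))
    (hT : ∃ T ∈ maximalIdeal (W.presheaf.stalk w), loc b y w h z = loc b y w h x * T)
    (hT' : ∃ T ∈ maximalIdeal (W.presheaf.stalk w'), loc b y w' h' z = loc b y w' h' x * T) : w = w' := by
  obtain ⟨T, hT, hz⟩ := hT
  obtain ⟨T', hT', hz'⟩ := hT'
  obtain ⟨⟨U, hU⟩, hyU⟩ := exists_affine y
  replace hyU : y ∈ U := hyU
  have hwU : w ∈ b ⁻¹ᵁ U := by
    change b w ∈ U
    rwa [h]
  obtain ⟨a, ha, hwV⟩ := exists_mem_chart_of_span b J ⟨U, hU⟩ hb.1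
    (Submodule.span_eq (J.ideal ⟨U, hU⟩)).symm w hwU
  replace ha : a ∈ J.ideal ⟨U, hU⟩ := ha
  have hV := isAffineOpen_chart b J ⟨U, hU⟩ hb ha
  have hVU : chart b J ⟨U, hU⟩ a ≤ b ⁻¹ᵁ U := chart_le b J ⟨U, hU⟩ a
  have hJs : stalkIdeal J y = (J.ideal ⟨U, hU⟩).map (Y.presheaf.germ U y hyU).hom :=
    stalkIdeal_eq J ⟨U, hU⟩ hyU
  have hJm : ∀ (k : ℕ) (s : Γ(Y, U)), s ∈ J.ideal ⟨U, hU⟩ ^ k →
      Y.presheaf.germ U y hyU s ∈ maximalIdeal (Y.presheaf.stalk y) ^ k := by
    intro k s hs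
    rw [← hJ, hJs, ← Ideal.map_pow]
    exact Ideal.mem_map_of_mem _ hs
  have hmle := map_maximalIdeal_le (loc b y w h) hm hz
  have hmle' := map_maximalIdeal_le (loc b y w' h') hm hz'
  have hay : Y.presheaf.germ U y hyU a ∈ maximalIdeal (Y.presheaf.stalk y) := by
    simpa using hJm 1 a (by rwa [pow_one])
  rw [hm, Ideal.mem_span_pair] at hay
  obtain ⟨α, β, hαβ⟩ := hay
  have hxm : x ∈ maximalIdeal (Y.presheaf.stalk y) := by
    rw [hm]
    exact Ideal.subset_span (by simp)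
  -- `a` generates the ideal at `w`
  have hgen : (stalkIdeal J y).map (loc b y w h) =
      Ideal.span {loc b y w h (Y.presheaf.germ U y hyU a)} := by
    have h1 := ideal_chart b J ⟨U, hU⟩ a hV
    have h2 := stalkIdeal_comap' b J y w h
    rw [← h2, stalkIdeal_eq (J.comap b) ⟨_, hV⟩ hwV, h1, Ideal.map_span, Set.image_singleton,
      loc_germ b y w h U hyU _ hwV hVU]
  have hα : IsUnit α := by
    have h1 : loc b y w h x ∈ (stalkIdeal J y).map (loc b y w h) := by
      rw [hJ]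
      exact Ideal.mem_map_of_mem _ hxm
    rw [hgen, Ideal.mem_span_singleton, ← hαβ] at h1
    obtain ⟨e, he⟩ := h1
    rw [map_add, map_mul, map_mul, hz] at he
    have h2 : (loc b y w h α + loc b y w h β * T) * e = 1 := by
      apply (mul_cancel_left_mem_nonZeroDivisors hx).1
      rw [mul_one]
      conv_rhs => rw [he]
      ring
    have h3 : IsUnit (loc b y w h α + loc b y w h β * T) := IsUnit.of_mul_eq_one _ h2
    have h4 : IsUnit (loc b y w h α) := by
      by_contra hn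
      exact ((mem_maximalIdeal _).1 (Ideal.add_mem _ ((mem_maximalIdeal _).2 hn)
        (Ideal.mul_mem_left _ _ hT))) h3
    exact (isUnit_map_iff (loc b y w h) α).1 h4
  have hunit : ∀ (w : W) (h : b w = y) (T : W.presheaf.stalk w), T ∈ maximalIdeal (W.presheaf.stalk w) →
      loc b y w h z = loc b y w h x * T →
      ∃ e, IsUnit e ∧ loc b y w h (Y.presheaf.germ U y hyU a) = loc b y w h x * e := by
    intro w h T hT hz
    refine ⟨loc b y w h α + loc b y w h β * T, ?_, ?_⟩
    · by_contra hn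
      have h1 : loc b y w h α ∈ maximalIdeal (W.presheaf.stalk w) :=
        (Ideal.add_mem_iff_left _ (Ideal.mul_mem_left _ _ hT)).1 ((mem_maximalIdeal _).2 hn)
      exact ((mem_maximalIdeal _).1 h1) (hα.map _)
    · rw [← hαβ, map_add, map_mul, map_mul, hz]
      ring
  have hwV' : w' ∈ chart b J ⟨U, hU⟩ a := by
    apply mem_chart_of_stalk hb ⟨U, hU⟩ a w' h' hyU ha
    obtain ⟨e, he, hae⟩ := hunit w' h' T' hT' hz'
    apply le_antisymm
    · rw [hJ]
      refine hmle'.trans ?_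
      rw [Ideal.span_singleton_le_span_singleton]
      change loc b y w' h' (Y.presheaf.germ U y hyU a) ∣ _
      rw [hae]
      obtain ⟨e, rfl⟩ := he
      exact ⟨↑e⁻¹, by rw [mul_assoc, Units.mul_inv, mul_one]⟩
    · rw [Ideal.span_singleton_le_iff_mem]
      apply Ideal.mem_map_of_mem
      rw [hJs]
      exact Ideal.mem_map_of_mem _ ha
  -- compare the two primes of the chart
  have key : ∀ g : Γ(W, chart b J ⟨U, hU⟩ a), ∃ c : Y.presheaf.stalk y,
      ∀ (w : W) (h : b w = y) (hwV : w ∈ chart b J ⟨U, hU⟩ a) (T : W.presheaf.stalk w),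
        T ∈ maximalIdeal (W.presheaf.stalk w) →
        loc b y w h x ∈ nonZeroDivisors (W.presheaf.stalk w) →
        loc b y w h z = loc b y w h x * T →
        (IsUnit (W.presheaf.germ _ w hwV g) ↔ IsUnit c) := by
    intro g
    obtain ⟨n, m, hm', hnm⟩ := exists_pow_mul_eq_appLE b J ⟨U, hU⟩ hb ha g
    have h1 := hJm n m hm'
    rw [hm] at h1
    obtain ⟨q, hq, hqm⟩ := Groth.Agent.Ega4B.ElimAlg.exists_hsum x z n h1
    refine ⟨q.coeff 0, ?_⟩
    intro w h hwV T hT hx hz
    obtain ⟨e, he, hae⟩ := hunit w h T hT hz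
    have h2 := congrArg (W.presheaf.germ _ w hwV) hnm
    rw [map_mul, map_pow] at h2
    have h3 : W.presheaf.germ _ w hwV ((b.appLE U (chart b J ⟨U, hU⟩ a) hVU).hom a) =
        loc b y w h (Y.presheaf.germ U y hyU a) := (loc_germ b y w h U hyU _ hwV hVU a).symm
    have h4 : W.presheaf.germ _ w hwV ((b.appLE U (chart b J ⟨U, hU⟩ a) hVU).hom m) =
        loc b y w h (Y.presheaf.germ U y hyU m) := (loc_germ b y w h U hyU _ hwV hVU m).symm
    have h5 : loc b y w h (Y.presheaf.germ U y hyU a) ^ n * W.presheaf.germ _ w hwV g =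
        loc b y w h (Y.presheaf.germ U y hyU m) := by
      rw [← h3, ← h4]
      exact h2
    rw [hae, ← hqm, Groth.Agent.Ega4B.ElimAlg.map_hsum (loc b y w h) hz hq, mul_pow, mul_assoc] at h5
    have h6 := (mul_cancel_left_mem_nonZeroDivisors (pow_mem hx n)).1 h5
    have h7 : q.eval₂ (loc b y w h) T = q.divX.eval₂ (loc b y w h) T * T + loc b y w h (q.coeff 0) := by
      conv_lhs => rw [← Polynomial.divX_mul_X_add q]
      rw [Polynomial.eval₂_add, Polynomial.eval₂_mul, Polynomial.eval₂_X, Polynomial.eval₂_C]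
    have h8 : IsUnit (W.presheaf.germ _ w hwV g) ↔ IsUnit (q.eval₂ (loc b y w h) T) := by
      rw [← h6]
      exact (IsUnit.mul_left_iff (he.pow n)).symm
    rw [h8, h7, ← isUnit_map_iff (loc b y w h) (q.coeff 0), ← not_iff_not]
    have h9 : ∀ r : W.presheaf.stalk w, ¬ IsUnit r ↔ r ∈ maximalIdeal (W.presheaf.stalk w) := fun r =>
      (mem_maximalIdeal r).symm
    rw [h9, h9]
    exact Ideal.add_mem_iff_right _ (Ideal.mul_mem_left _ _ hT)
  have hprime : hV.primeIdealOf ⟨w, hwV⟩ = hV.primeIdealOf ⟨w', hwV'⟩ := by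
    apply PrimeSpectrum.ext
    ext g
    obtain ⟨c, hc⟩ := key g
    have h1 := hc w h hwV T hT hx hz
    have h2 := hc w' h' hwV' T' hT' hx' hz'
    have h3 : ∀ (v : W) (hv : v ∈ chart b J ⟨U, hU⟩ a),
        (g ∉ (hV.primeIdealOf ⟨v, hv⟩).asIdeal ↔ IsUnit (W.presheaf.germ _ v hv g)) := by
      intro v hv
      let := W.presheaf.algebra_section_stalk (⟨v, hv⟩ : chart b J ⟨U, hU⟩ a)
      have := hV.isLocalization_stalk ⟨v, hv⟩
      exact (IsLocalization.AtPrime.isUnit_to_map_iff (W.presheaf.stalk v)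
        (hV.primeIdealOf ⟨v, hv⟩).asIdeal g).symm
    rw [← not_iff_not, h3 w hwV, h3 w' hwV', h1, h2]
  have h1 := hV.fromSpec_primeIdealOf ⟨w, hwV⟩
  have h2 := hV.fromSpec_primeIdealOf ⟨w', hwV'⟩
  rw [hprime] at h1
  exact h1.symm.trans h2

/-- At all but at most two points above `y` the function is a unit times a power of one parameter. -/
theorem exists_two (s : Γ(Y, ⊤)) (hs : NC (Y.presheaf.germ ⊤ y trivial s)) :
    ∃ F : Finset W, F.card ≤ 2 ∧ ∀ w : W, b w = y → w ∉ F → NC1 (W.presheaf.germ ⊤ w trivial (b.appTop s)) := by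
  classical
  obtain ⟨x, z, c, m, n, hm, hc, hs⟩ := hs
  have key : ∀ {x z : Y.presheaf.stalk y}, maximalIdeal (Y.presheaf.stalk y) = Ideal.span {x, z} →
      ∃ F : Finset W, F.card ≤ 1 ∧ ∀ (w : W) (h : b w = y), loc b y w h x ∈ nonZeroDivisors (W.presheaf.stalk w) →
        (∃ T ∈ maximalIdeal (W.presheaf.stalk w), loc b y w h z = loc b y w h x * T) → w ∈ F := by
    intro x z hm
    by_cases hex : ∃ (w : W) (h : b w = y), loc b y w h x ∈ nonZeroDivisors (W.presheaf.stalk w) ∧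
        (∃ T ∈ maximalIdeal (W.presheaf.stalk w), loc b y w h z = loc b y w h x * T)
    · obtain ⟨w, h, hx, hT⟩ := hex
      refine ⟨{w}, by simp, fun w' h' hx' hT' => ?_⟩
      rw [Finset.mem_singleton]
      exact eq_of_dvd hb hJ hm w' w h' h hx' hx hT' hT
    · refine ⟨∅, by simp, fun w' h' hx' hT' => ?_⟩
      exact (hex ⟨w', h', hx', hT'⟩).elim
  obtain ⟨F₁, hF₁, h₁⟩ := key hm
  obtain ⟨F₂, hF₂, h₂⟩ := key (x := z) (z := x) (hm.trans (by rw [Set.pair_comm]))
  refine ⟨F₁ ∪ F₂, (Finset.card_union_le _ _).trans (by omega), fun w h hw => ?_⟩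
  rw [← loc_germ_top b y w h, hs]
  rcases (trichotomy (loc b y w h) hm hc (exists_map_eq_span hb hJ w h) (exists_frac hb hJ w h)).2 with
    h3 | ⟨hx, hT⟩ | ⟨hx, hT⟩
  · exact h3
  · exact (hw (Finset.mem_union_left _ (h₁ w h hx hT))).elim
  · exact (hw (Finset.mem_union_right _ (h₂ w h hx hT))).elim

end

end K111.NCBlow
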