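import Groth.Agent.Models.K111.NCStep
import Groth.Agent.Models.K954.NCDef
import Groth.Agent.Dix.MinimalUnique

/-!
# Descent of a morphism along a contraction sequence with normal crossing centres
-/

set_option autoImplicit false
universe u

open CategoryTheory CategoryTheory.Limits AlgebraicGeometry IsLocalRing
open Groth.Agent.Dix.PointIdeal Groth.Agent.K954.NC

namespace K111.NCDesc

open K111.NCAlg K111.NCStep

theorem ncAt_iff {R : Type u} [CommRing R] {X : Scheme.{u}} {p : X ⟶ Spec (CommRingCat.of R)} {ϖ : R} {x : X} :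
    NCAt p ϖ x ↔ IsRegularLocalRing (X.presheaf.stalk x) ∧ ringKrullDim (X.presheaf.stalk x) = 2 ∧
      DualGr.stalkHom p x ϖ ∈ maximalIdeal (X.presheaf.stalk x) ∧ NC (DualGr.stalkHom p x ϖ) := by
  constructor
  · rintro ⟨h1, h2, h3, c, u, v, a, b, hc, hm, h⟩
    exact ⟨h1, h2, h3, u, v, c, a, b, hm, hc, h⟩
  · rintro ⟨h1, h2, h3, u, v, c, a, b, hm, hc, h⟩
    exact ⟨h1, h2, h3, c, u, v, a, b, hc, hm, h⟩

theorem oneAt_iff {R : Type u} [CommRing R] {X : Scheme.{u}} {p : X ⟶ Spec (CommRingCat.of R)} {ϖ : R} {x : X} :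
    OneAt p ϖ x ↔ IsRegularLocalRing (X.presheaf.stalk x) ∧ ringKrullDim (X.presheaf.stalk x) = 2 ∧
      DualGr.stalkHom p x ϖ ∈ maximalIdeal (X.presheaf.stalk x) ∧ NC1 (DualGr.stalkHom p x ϖ) := by
  constructor
  · rintro ⟨h1, h2, h3, c, u, v, a, hc, hm, h⟩
    exact ⟨h1, h2, h3, u, v, c, a, hm, hc, h⟩
  · rintro ⟨h1, h2, h3, u, v, c, a, hm, hc, h⟩
    exact ⟨h1, h2, h3, c, u, v, a, hc, hm, h⟩

/-- **(M1)** -/
theorem ncAt_of_blowUp {R : Type u} [CommRing R] {Z W : Scheme.{u}} (p : Z ⟶ Spec (CommRingCat.of R)) (b : W ⟶ Z)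
    (ϖ : R) (y : Z) (hy : IsClosed ({y} : Set Z))
    (hb : BlowUp.IsBlowUp b (Scheme.IdealSheafData.vanishingIdeal ⟨{y}, hy⟩)) (h : NCAt p ϖ y) (w : W) (hw : b w = y)
    (hwc : IsClosed ({w} : Set W)) : NCAt (b ≫ p) ϖ w :=
  ncAt_iff.2 (step p b ϖ y hy hb h.regular h.dim h.mem (ncAt_iff.1 h).2.2.2 w hw hwc)

/-- **(M1)** -/
theorem exists_oneAt_of_blowUp {R : Type u} [CommRing R] {Z W : Scheme.{u}} (p : Z ⟶ Spec (CommRingCat.of R))
    (b : W ⟶ Z) (ϖ : R) (y : Z) (hy : IsClosed ({y} : Set Z))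
    (hb : BlowUp.IsBlowUp b (Scheme.IdealSheafData.vanishingIdeal ⟨{y}, hy⟩)) (h : NCAt p ϖ y) :
    ∃ F : Finset W, F.card ≤ 2 ∧ ∀ w : W, b w = y → IsClosed ({w} : Set W) → w ∉ F → OneAt (b ≫ p) ϖ w := by
  obtain ⟨F, hF, h1⟩ := exists_two p b ϖ y hy hb (ncAt_iff.1 h).2.2.2
  refine ⟨F, hF, fun w hw hwc hwF => ?_⟩
  obtain ⟨h2, h3, h4, -⟩ := ncAt_iff.1 (ncAt_of_blowUp p b ϖ y hy hb h w hw hwc)
  exact oneAt_iff.2 ⟨h2, h3, h4, h1 w hw hwF⟩

theorem NCAt.of_isIso {R : Type u} [CommRing R] {Z W : Scheme.{u}} (p : Z ⟶ Spec (CommRingCat.of R)) (b : W ⟶ Z)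
    (ϖ : R) (w : W) [IsIso (b.stalkMap w)] (h : NCAt p ϖ (b w)) : NCAt (b ≫ p) ϖ w := by
  obtain ⟨h1, h2, h3, h4⟩ := ncAt_iff.1 h
  let e : Z.presheaf.stalk (b w) ≃+* W.presheaf.stalk w := (asIso (b.stalkMap w)).commRingCatIsoToRingEquiv
  refine ncAt_iff.2 ⟨IsRegularLocalRing.of_ringEquiv e, ?_, ?_, ?_⟩
  · rw [← h2]
    exact (ringKrullDim_eq_of_ringEquiv e).symm
  · rw [stalkHom_comp', mem_maximalIdeal, mem_nonunits_iff, isUnit_map_iff (b.stalkMap w).hom]
    exact (mem_maximalIdeal _).1 h3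
  · rw [stalkHom_comp']
    exact h4.map_equiv e

section

variable {R : Type u} [CommRing R] {E W Z : Scheme.{u}} {ι : E ⟶ W} {b : W ⟶ Z} (hb : Models.IsContractionOf ι b)

/-- Normal crossing form goes up along a contraction. -/
theorem ncAt_of_contraction (hb : Models.IsContractionOf ι b) {p : Z ⟶ Spec (CommRingCat.of R)} {ϖ : R} {T : Set Z}
    (hT : ∀ z ∈ T, IsClosed ({z} : Set Z) → NCAt p ϖ z) (w : W) (hw : w ∈ b ⁻¹' T) (hwc : IsClosed ({w} : Set W)) :
    NCAt (b ≫ p) ϖ w := by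
  obtain ⟨-, hbp, y, hy, -, -, hdim, hbl⟩ := hb
  by_cases h : b w = y
  · have hy' : y ∈ T := by rw [← h]; exact hw
    exact ncAt_of_blowUp p b ϖ y hy hbl (hT y hy' hy) w h hwc
  · have hi := isIso_stalkMap b y hy hbl w h
    have hcl : IsClosed ({b w} : Set Z) := by
      have := b.isClosedMap _ hwc
      rwa [Set.image_singleton] at this
    exact NCAt.of_isIso p b ϖ w (hT _ hw hcl)

theorem surjective_of_contraction (hb : Models.IsContractionOf ι b) :
    Function.Surjective b := by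
  obtain ⟨-, hbp, y, hy, hr, -, hdim, hbl⟩ := hb
  intro z
  by_cases h : z = y
  · subst h
    have h3 : z ∈ Set.range ((ι ≫ b).base : E → Z) := by rw [hr]; rfl
    obtain ⟨e, he⟩ := h3
    exact ⟨ι e, by rw [← Scheme.Hom.comp_apply]; exact he⟩
  · have hbU := Groth.Agent.S1682.result _ b hbl
    obtain ⟨w, hw⟩ := Groth.Agent.Dix.BirIso.surj b _ hbU z (fun hz' => h ((mem_support_pt y hy _).mp hz'))
    exact ⟨w, hw⟩

/-- The source of a contraction over an integral scheme is integral, with the generic point above the generic point. -/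
theorem integral_of_contraction (hb : Models.IsContractionOf ι b) [IsIntegral Z] : IsIntegral W := by
  obtain ⟨-, hbp, y, hy, hr, -, hdim, hbl⟩ := hb
  have hne : genericPoint Z ≠ y := Groth.Agent.Dix.HasBlow.genericPoint_ne y hdim
  have hI : pt y hy ≠ ⊥ := by
    intro h0
    have h1 := (mem_support_pt y hy (genericPoint Z)).mp (by rw [h0]; trivial)
    exact hne h1
  obtain ⟨hint, -, -⟩ := Groth.Agent.S2348.result (pt y hy) hI b hbl
  exact hint

theorem genericPoint_of_contraction (hb : Models.IsContractionOf ι b) [IsIntegral Z]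
    [IsIntegral W] : b (genericPoint W) = genericPoint Z := by
  obtain ⟨w, hw⟩ := surjective_of_contraction hb (genericPoint Z)
  have h1 : b (genericPoint W) ⤳ b w := (genericPoint_specializes w).map b.continuous
  rw [hw] at h1
  exact (h1.antisymm (genericPoint_specializes _)).eq

end

/-- **Descent of a morphism along a contraction sequence with normal crossing centres.** -/
theorem main {R : Type u} [CommRing R] {Y : Scheme.{u}} (q : Y ⟶ Spec (CommRingCat.of R)) (ϖ : R) (η : Y)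
    (H : ∀ {E W Z : Scheme.{u}} (ι : E ⟶ W) (b : W ⟶ Z) (p : Z ⟶ Spec (CommRingCat.of R)) (y : Z) (φ : W ⟶ Y)
      [IsIntegral W] [IsNoetherian W] [IsIntegral Z] [IsNoetherian Z] [LocallyOfFiniteType p] [IsProper b]
      [IsClosedImmersion ι], Models.IsExcCurve ι → Models.IsContractionOf ι b → (∀ e : E, b (ι e) = y) →
      ∀ (hy : IsClosed ({y} : Set Z)), BlowUp.IsBlowUp b (Scheme.IdealSheafData.vanishingIdeal ⟨{y}, hy⟩) →
      NCAt p ϖ y → (∀ w : W, b w = y → IsClosed ({w} : Set W) → NCAt (b ≫ p) ϖ w) →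
      (∃ F : Finset W, F.card ≤ 2 ∧
        ∀ w : W, b w = y → IsClosed ({w} : Set W) → w ∉ F → OneAt (b ≫ p) ϖ w) →
      φ ≫ q = b ≫ p → φ (genericPoint W) = η → ∃ t, Set.range ((ι ≫ φ).base : E → Y) = {t})
    {W Z : Scheme.{u}} [IsIntegral Z] [IsIntegral W] (g : W ⟶ Z) (hg : Models.IsContractionSeq g)
    (p : Z ⟶ Spec (CommRingCat.of R)) [LocallyOfFiniteType p] (T : Set Z)
    (hT : ∀ z ∈ T, IsClosed ({z} : Set Z) → NCAt p ϖ z) (hinj : ∀ z ∉ T, (g ⁻¹' {z}).Subsingleton)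
    (φ : W ⟶ Y) (hφ : φ ≫ q = g ≫ p) (hη : φ (genericPoint W) = η) :
    ∃ φ₀ : Z ⟶ Y, g ≫ φ₀ = φ ∧ φ₀ ≫ q = p := by
  have key : ∀ {W Z : Scheme.{u}} (g : W ⟶ Z), Models.IsContractionSeq g → ∀ [IsIntegral Z],
      IsIntegral W ∧ ∀ [IsIntegral W] (p : Z ⟶ Spec (CommRingCat.of R)) [LocallyOfFiniteType p] (T : Set Z),
        (∀ z ∈ T, IsClosed ({z} : Set Z) → NCAt p ϖ z) → (∀ z ∉ T, (g ⁻¹' {z}).Subsingleton) →
        ((∀ w ∈ g ⁻¹' T, IsClosed ({w} : Set W) → NCAt (g ≫ p) ϖ w) ∧ LocallyOfFiniteType (g ≫ p) ∧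
          ∀ φ : W ⟶ Y, φ ≫ q = g ≫ p → φ (genericPoint W) = η → ∃ φ₀ : Z ⟶ Y, g ≫ φ₀ = φ ∧ φ₀ ≫ q = p) := by
    intro W Z g hg
    induction hg with
    | @iso W Z e =>
      intro _
      have hW : IsIntegral W := IsIntegral.of_isIso e.inv
      refine ⟨hW, ?_⟩
      intro _ p _ T hT _
      refine ⟨fun w hw hwc => ?_, inferInstance, fun φ hφ _ => ⟨e.inv ≫ φ, by simp, by rw [Category.assoc, hφ]; simp⟩⟩
      have hcl : IsClosed ({e.hom w} : Set Z) := by
        have := e.hom.isClosedMap _ hwc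
        rwa [Set.image_singleton] at this
      exact NCAt.of_isIso p e.hom ϖ w (hT _ hw hcl)
    | @step W Z X E ι b r hι hE hb hr ih =>
      intro hX
      obtain ⟨hZint, ih⟩ := ih
      have hWint : IsIntegral W := integral_of_contraction hb
      refine ⟨hWint, ?_⟩
      intro _ p _ T hT hinj
      have hsurj := surjective_of_contraction hb
      have hinj' : ∀ z ∉ T, (r ⁻¹' {z}).Subsingleton := by
        intro z hz a ha a' ha'
        obtain ⟨w, rfl⟩ := hsurj a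
        obtain ⟨w', rfl⟩ := hsurj a'
        have h1 : w = w' := hinj z hz (show (b ≫ r) w = z by rw [Scheme.Hom.comp_apply]; exact ha)
          (show (b ≫ r) w' = z by rw [Scheme.Hom.comp_apply]; exact ha')
        rw [h1]
      obtain ⟨hNCr, hft, hdesc⟩ := ih p T hT hinj'
      have hNCb := ncAt_of_contraction (p := r ≫ p) (ϖ := ϖ) (T := r ⁻¹' T) hb hNCr
      have hNW := isNoetherian_of_contraction hb
      obtain ⟨hNZ, hbp, y, hy, hEy, hreg, hdim, hbl⟩ := id hb
      have hEy' : ∀ e : E, b (ι e) = y := by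
        intro e
        have h1 : (ι ≫ b) e ∈ Set.range ((ι ≫ b).base : E → Z) := ⟨e, rfl⟩
        rw [hEy] at h1
        rw [← Scheme.Hom.comp_apply]
        exact h1
      have hyT : y ∈ r ⁻¹' T := by
        by_contra hyT
        obtain ⟨-, k, _, e, -⟩ := hE
        obtain ⟨a, a', hne⟩ := Groth.Agent.Dix.MinimalUnique.exists_ne k
        apply hne
        have h1 : ι (e.hom a) = ι (e.hom a') := hinj (r y) hyT
          (show (b ≫ r) (ι (e.hom a)) = r y by rw [Scheme.Hom.comp_apply, hEy'])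
          (show (b ≫ r) (ι (e.hom a')) = r y by rw [Scheme.Hom.comp_apply, hEy'])
        exact e.hom.injective (ι.injective h1)
      have hNCy := hNCr y hyT hy
      refine ⟨?_, ?_, fun φ hφ hη => ?_⟩
      · intro w hw hwc
        rw [Category.assoc]
        exact hNCb w hw hwc
      · rw [Category.assoc]
        infer_instance
      · have hφ' : φ ≫ q = b ≫ r ≫ p := by rw [hφ, Category.assoc]
        obtain ⟨t, ht⟩ := H ι b (r ≫ p) y φ hE hb hEy' hy hbl hNCy
          (fun w hw hwc => ncAt_of_blowUp (r ≫ p) b ϖ y hy hbl hNCy w hw hwc)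
          (exists_oneAt_of_blowUp (r ≫ p) b ϖ y hy hbl hNCy) hφ' hη
        obtain ⟨ψ, hψ, -⟩ := Groth.Agent.S7307.result ι hE b hb φ t ht
        replace hψ : b ≫ ψ = φ := hψ
        have hrange : Set.range ((ι ≫ b ≫ r ≫ p).base : E → Spec (CommRingCat.of R)) = {(r ≫ p) y} := by
          ext z
          constructor
          · rintro ⟨e, rfl⟩
            change (ι ≫ b ≫ r ≫ p) e = (r ≫ p) y
            rw [Scheme.Hom.comp_apply, Scheme.Hom.comp_apply, hEy']
          · rintro rfl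
            have h3 : y ∈ Set.range ((ι ≫ b).base : E → Z) := by rw [hEy]; rfl
            obtain ⟨e, -⟩ := h3
            refine ⟨e, ?_⟩
            rw [Scheme.Hom.comp_apply, Scheme.Hom.comp_apply, hEy']
        obtain ⟨χ, -, hχ⟩ := Groth.Agent.S7307.result ι hE b hb (b ≫ r ≫ p) _ hrange
        have hψq : ψ ≫ q = r ≫ p := by
          have h1 : b ≫ ψ ≫ q = b ≫ r ≫ p := by rw [← Category.assoc, hψ, hφ']
          rw [hχ (ψ ≫ q) h1, hχ (r ≫ p) rfl]
        have hψη : ψ (genericPoint Z) = η := by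
          rw [← genericPoint_of_contraction hb, ← Scheme.Hom.comp_apply, hψ, hη]
        obtain ⟨φ₀, h1, h2⟩ := hdesc ψ hψq hψη
        exact ⟨φ₀, by rw [Category.assoc, h1, hψ], h2⟩
  exact ((key g hg).2 p T hT hinj).2.2 φ hφ hη

end K111.NCDesc
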