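import Groth.Agent.Sga7.H558.QuadBlow
import Groth.Agent.Dix.ExcGen
import Groth.Agent.Dix.BlowIrr
import Groth.Agent.Dix.HasBlow
import Groth.Agent.Resolve.K373.PtIdeal
import Groth.Agent.S0564
import Groth.Agent.S2348
import Groth.Agent.S1682

/-!
# The closed points above the centre of the blow-up of a regular point of dimension two have dimension two
-/

set_option autoImplicit false
universe u

open CategoryTheory CategoryTheory.Limits AlgebraicGeometry IsLocalRing
open Groth.Agent.Dix.PointIdeal

namespace K111.NCDim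

/-- The case of a regular integral scheme. -/
theorem two_le {Y P : Scheme.{u}} [IsIntegral Y] [IsLocallyNoetherian Y] (y : Y) (hy : IsClosed ({y} : Set Y))
    (hreg : ∀ z : Y, IsRegularLocalRing (Y.presheaf.stalk z))
    (hdim : ringKrullDim (Y.presheaf.stalk y) = 2) {c : P ⟶ Y}
    (hc : BlowUp.IsBlowUp c (pt y hy)) (z : P) (hz : c z = y)
    (hzc : IsClosed ({z} : Set P)) : 2 ≤ ringKrullDim (P.presheaf.stalk z) := by
  have hne : genericPoint Y ≠ y := Groth.Agent.Dix.HasBlow.genericPoint_ne y hdim
  have hI : pt y hy ≠ ⊥ := by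
    intro h0
    have h1 := (mem_support_pt y hy (genericPoint Y)).mp (by rw [h0]; trivial)
    exact hne h1
  obtain ⟨hint, hbgen, -⟩ := Groth.Agent.S2348.result (pt y hy) hI c hc
  replace hbgen : c (genericPoint P) = genericPoint Y := hbgen
  have hfin : BlowUp.IsFiniteTypeIdeal (pt y hy) := by
    intro U
    have : IsNoetherianRing Γ(Y, U.1) := IsLocallyNoetherian.component_noetherian U
    exact Ideal.fg_of_isNoetherianRing _
  have hcprop : IsProper c := Groth.Agent.Flat2C.BlowProper.isProper_of_isBlowUp hc hfin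
  have hbU := Groth.Agent.S1682.result (pt y hy) c hc
  have hmemU : ∀ z : Y, z ≠ y → z ∈ (pt y hy).support.compl := by
    intro z hz hz'
    exact hz ((mem_support_pt y hy z).mp hz')
  have hbiso : ∀ q, c q ≠ y → IsIso (c.stalkMap q) := fun q hq =>
    Groth.Agent.Dix.BirIso.isIso_stalkMap c _ hbU q (hmemU _ hq)
  have hbbir : IsIso (c.stalkMap (genericPoint P)) := hbiso _ (by rw [hbgen]; exact hne)
  have hN : IsLocallyNoetherian P := LocallyOfFiniteType.isLocallyNoetherian c
  have hinf := Groth.Agent.Dix.BlowIrr.not_finite_fibre y hy hreg hdim c hc hbgen hbbir z hz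
  have hbig : ∃ x x', x ≠ x' ∧ c x = y ∧ c x' = y := by
    by_contra hcon
    push Not at hcon
    apply hinf
    apply (Set.finite_singleton z).subset
    intro x hx
    by_contra hxz
    exact hcon x z hxz hx hz
  have hnorm : ∀ z : Y, IsIntegrallyClosed (Y.presheaf.stalk z) := by
    intro z
    have := hreg z
    exact Groth.Agent.CurvesC.RegNormal.isIntegrallyClosed _
  have hgenz : ∀ z', c z' = y → z ⤳ z' → z' = z := fun z' _ h => h.mem_closed hzc rfl
  obtain ⟨ξ, hξ, hξz, hne'⟩ :=
    Groth.Agent.Dix.ExcGen.exists_generization c hnorm hbgen hbbir y hy hbig z hz hgenz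
  have hξg : ξ ≠ genericPoint P := by
    rintro rfl
    exact hne (hbgen.symm.trans hξ)
  have h1 := Groth.Agent.Dix.BlowIrr.coheight_two (genericPoint_specializes ξ) hξz hξg hne'.symm
  rw [ringKrullDim_stalk_eq_coheight]
  exact WithBot.coe_le_coe.mpr h1

theorem regular_stalk_spec {A : Type u} [CommRing A] [IsRegularLocalRing A] (z : Spec (CommRingCat.of A)) :
    IsRegularLocalRing ((Spec (CommRingCat.of A)).presheaf.stalk z) := by
  have hp : z.asIdeal.IsPrime := PrimeSpectrum.isPrime z
  have := Groth.Agent.S0564.result A z.asIdeal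
  have e : ((Spec (CommRingCat.of A)).presheaf.stalk z) ≃+* Localization.AtPrime z.asIdeal :=
    (Spec.stalkIso (CommRingCat.of A) z).commRingCatIsoToRingEquiv
  exact IsRegularLocalRing.of_ringEquiv e.symm

/-- The case of a regular local ring of dimension two. -/
theorem ringKrullDim_stalk_spec {A : Type u} [CommRing A] [IsRegularLocalRing A] (hA : ringKrullDim A = 2)
    {P : Scheme.{u}} {c : P ⟶ Spec (CommRingCat.of A)}
    (hc : BlowUp.IsBlowUp c (Curv2.idealSheaf A (maximalIdeal A))) (z : P) (hz : c z = closedPoint A)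
    (hzc : IsClosed ({z} : Set P)) : 2 ≤ ringKrullDim (P.presheaf.stalk z) := by
  have hdom : IsDomain A := Groth.Agent.CalgA.RegBasic.isDomain A
  have hy := K373.PtIdeal.isClosed_closedPoint A
  rw [← K373.PtIdeal.pt_eq_idealSheaf A hy] at hc
  have hdim : ringKrullDim ((Spec (CommRingCat.of A)).presheaf.stalk (closedPoint A)) = 2 := by
    rw [K373.PtIdeal.ringKrullDim_stalk_closedPoint A]
    exact hA
  exact two_le (Y := Spec (CommRingCat.of A)) (closedPoint A) hy regular_stalk_spec hdim hc z hz hzc

theorem ringKrullDim_stalk {X W : Scheme.{u}} (x : X) (hx : IsClosed ({x} : Set X)) {b : W ⟶ X}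
    (hb : BlowUp.IsBlowUp b (pt x hx)) [IsRegularLocalRing (X.presheaf.stalk x)]
    (hdim : ringKrullDim (X.presheaf.stalk x) = 2) (w : W) (h : b w = x) (hw : IsClosed ({w} : Set W)) :
    ringKrullDim (W.presheaf.stalk w) = 2 := by
  obtain ⟨P, g, c, y, rfl, hy2, hfl, hmono, hgb, hc⟩ := Groth.Agent.Sga7.H558.QuadBlow.exists_local hb w h
  have i1 : IsIso (g.stalkMap y) := Groth.Agent.Flat2E.GenericFibre.isIso_stalkMap_of_flat_mono _ _
  apply le_antisymm (Groth.Agent.Sga7.H558.QuadBlow.ringKrullDim_stalk_le hb hdim _ h)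
  rw [ringKrullDim_eq_of_ringEquiv (asIso (g.stalkMap y)).commRingCatIsoToRingEquiv]
  apply ringKrullDim_stalk_spec hdim hc y hy2
  have h1 : g ⁻¹' {g y} = {y} := by
    ext z
    simp only [Set.mem_preimage, Set.mem_singleton_iff]
    exact ⟨fun h => g.injective h, fun h => by rw [h]⟩
  rw [← h1]
  exact hw.preimage g.continuous

end K111.NCDim
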