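import Groth.Agent.Models.K111.NCBlow
import Groth.Agent.Models.K111.NCDim
import Groth.Agent.S7307
import Groth.Prelude.Def_DualGr

/-!
# Normal crossing form along contraction sequences and descent of morphisms

* `step`, `exists_two`: normal crossing form of `ϖ` at the points above the centre of the blow-up of a regular closed
  point of dimension two.
* `Good p ϖ`: at all closed points of dimension two the scheme is regular and `ϖ` is a nonunit in normal crossing form.
  `Good.of_contraction`, `Good.of_seq`: this goes up along contraction sequences.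
* `descend`: a morphism descends along a contraction sequence of good schemes as soon as it is constant on the
  exceptional curve of every contraction with at most two bad points (`H`).
-/

set_option autoImplicit false
universe u

open CategoryTheory CategoryTheory.Limits AlgebraicGeometry IsLocalRing
open Groth.Agent.Dix.PointIdeal

namespace K111.NCStep

open K111.NCAlg

theorem stalkHom_comp {R : Type u} [CommRing R] {Z W : Scheme.{u}} (p : Z ⟶ Spec (CommRingCat.of R)) (b : W ⟶ Z)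
    (w : W) (ϖ : R) :
    DualGr.stalkHom (b ≫ p) w ϖ = W.presheaf.germ ⊤ w trivial (b.appTop (Coh.toGlobal p ϖ)) := rfl

theorem stalkHom_comp' {R : Type u} [CommRing R] {Z W : Scheme.{u}} (p : Z ⟶ Spec (CommRingCat.of R)) (b : W ⟶ Z)
    (w : W) (ϖ : R) :
    DualGr.stalkHom (b ≫ p) w ϖ = (b.stalkMap w).hom (DualGr.stalkHom p (b w) ϖ) := by
  have h := K111.NCBlow.loc_germ_top b (b w) w rfl (Coh.toGlobal p ϖ)
  rw [K111.NCBlow.loc_rfl] at h
  exact h.symm

section

variable {R : Type u} [CommRing R] {Z W : Scheme.{u}} (p : Z ⟶ Spec (CommRingCat.of R)) (b : W ⟶ Z) (ϖ : R)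
  (y : Z) (hy : IsClosed ({y} : Set Z))
  (hb : BlowUp.IsBlowUp b (Scheme.IdealSheafData.vanishingIdeal ⟨{y}, hy⟩))

include hb

/-- Normal crossing form at the closed points above the centre. -/
theorem step (hreg : IsRegularLocalRing (Z.presheaf.stalk y)) (hdim : ringKrullDim (Z.presheaf.stalk y) = 2)
    (hmem : DualGr.stalkHom p y ϖ ∈ maximalIdeal (Z.presheaf.stalk y)) (hNC : NC (DualGr.stalkHom p y ϖ))
    (w : W) (h : b w = y) (hw : IsClosed ({w} : Set W)) :
    IsRegularLocalRing (W.presheaf.stalk w) ∧ ringKrullDim (W.presheaf.stalk w) = 2 ∧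
      DualGr.stalkHom (b ≫ p) w ϖ ∈ maximalIdeal (W.presheaf.stalk w) ∧ NC (DualGr.stalkHom (b ≫ p) w ϖ) := by
  refine ⟨Groth.Agent.Sga7.H558.QuadBlow.isRegularLocalRing_stalk (hx := hy) hb hdim w h,
    K111.NCDim.ringKrullDim_stalk y hy hb hdim w h hw, ?_, ?_⟩
  · subst h
    rw [stalkHom_comp', mem_maximalIdeal, mem_nonunits_iff, isUnit_map_iff (b.stalkMap w).hom]
    exact (mem_maximalIdeal _).1 hmem
  · rw [stalkHom_comp]
    exact K111.NCBlow.nc_of_blowUp hb (stalkIdeal_pt y hy) _ hNC w h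

/-- At all but at most two points above the centre `ϖ` is a unit times a power of one parameter. -/
theorem exists_two (hNC : NC (DualGr.stalkHom p y ϖ)) :
    ∃ F : Finset W, F.card ≤ 2 ∧ ∀ w : W, b w = y → w ∉ F → NC1 (DualGr.stalkHom (b ≫ p) w ϖ) :=
  K111.NCBlow.exists_two hb (stalkIdeal_pt y hy) _ hNC

/-- Off the centre nothing changes. -/
theorem isIso_stalkMap (w : W) (h : b w ≠ y) : IsIso (b.stalkMap w) := by
  have hbU := Groth.Agent.S1682.result _ b hb
  exact Groth.Agent.Dix.BirIso.isIso_stalkMap b _ hbU w (fun hz' => h ((mem_support_pt y hy _).mp hz'))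

end

/-- At all closed points of dimension two the scheme is regular and `ϖ` is a nonunit in normal crossing form. -/
def Good {R : Type u} [CommRing R] {Z : Scheme.{u}} (p : Z ⟶ Spec (CommRingCat.of R)) (ϖ : R) : Prop :=
  ∀ z : Z, IsClosed ({z} : Set Z) → ringKrullDim (Z.presheaf.stalk z) = 2 →
    IsRegularLocalRing (Z.presheaf.stalk z) ∧ DualGr.stalkHom p z ϖ ∈ maximalIdeal (Z.presheaf.stalk z) ∧
      NC (DualGr.stalkHom p z ϖ)

section

variable {R : Type u} [CommRing R]

theorem Good.of_blowUp {Z W : Scheme.{u}} {p : Z ⟶ Spec (CommRingCat.of R)} {ϖ : R} (hZ : Good p ϖ) (b : W ⟶ Z)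
    [IsProper b] (y : Z) (hy : IsClosed ({y} : Set Z)) (hdim : ringKrullDim (Z.presheaf.stalk y) = 2)
    (hb : BlowUp.IsBlowUp b (Scheme.IdealSheafData.vanishingIdeal ⟨{y}, hy⟩)) : Good (b ≫ p) ϖ := by
  intro w hw hdw
  by_cases h : b w = y
  · obtain ⟨h1, h2, h3⟩ := hZ y hy hdim
    obtain ⟨h4, -, h5, h6⟩ := step p b ϖ y hy hb h1 hdim h2 h3 w h hw
    exact ⟨h4, h5, h6⟩
  · have hi := isIso_stalkMap b y hy hb w h
    have hcl : IsClosed ({b w} : Set Z) := by
      have := b.isClosedMap _ hw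
      rwa [Set.image_singleton] at this
    let e : Z.presheaf.stalk (b w) ≃+* W.presheaf.stalk w := (asIso (b.stalkMap w)).commRingCatIsoToRingEquiv
    have hd : ringKrullDim (Z.presheaf.stalk (b w)) = 2 := by
      rw [← hdw]
      exact ringKrullDim_eq_of_ringEquiv e
    obtain ⟨h1, h2, h3⟩ := hZ (b w) hcl hd
    refine ⟨IsRegularLocalRing.of_ringEquiv e, ?_, ?_⟩
    · rw [stalkHom_comp', mem_maximalIdeal, mem_nonunits_iff, isUnit_map_iff (b.stalkMap w).hom]
      exact (mem_maximalIdeal _).1 h2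
    · rw [stalkHom_comp']
      exact h3.map_equiv e

theorem Good.of_contraction {E Z W : Scheme.{u}} {p : Z ⟶ Spec (CommRingCat.of R)} {ϖ : R} (hZ : Good p ϖ)
    {ι : E ⟶ W} {b : W ⟶ Z} (hb : Models.IsContractionOf ι b) : Good (b ≫ p) ϖ := by
  obtain ⟨-, hp, y, hy, -, -, hdim, hb⟩ := hb
  exact hZ.of_blowUp b y hy hdim hb

theorem Good.of_iso {Z W : Scheme.{u}} {p : Z ⟶ Spec (CommRingCat.of R)} {ϖ : R} (hZ : Good p ϖ) (b : W ⟶ Z)
    [IsIso b] : Good (b ≫ p) ϖ := by
  intro w hw hdw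
  have hcl : IsClosed ({b w} : Set Z) := by
    have := b.isClosedMap _ hw
    rwa [Set.image_singleton] at this
  let e : Z.presheaf.stalk (b w) ≃+* W.presheaf.stalk w := (asIso (b.stalkMap w)).commRingCatIsoToRingEquiv
  have hd : ringKrullDim (Z.presheaf.stalk (b w)) = 2 := by
    rw [← hdw]
    exact ringKrullDim_eq_of_ringEquiv e
  obtain ⟨h1, h2, h3⟩ := hZ (b w) hcl hd
  refine ⟨IsRegularLocalRing.of_ringEquiv e, ?_, ?_⟩
  · rw [stalkHom_comp', mem_maximalIdeal, mem_nonunits_iff, isUnit_map_iff (b.stalkMap w).hom]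
    exact (mem_maximalIdeal _).1 h2
  · rw [stalkHom_comp']
    exact h3.map_equiv e

theorem Good.of_seq {Z W : Scheme.{u}} {r : W ⟶ Z} (hr : Models.IsContractionSeq r)
    {p : Z ⟶ Spec (CommRingCat.of R)} {ϖ : R} (hZ : Good p ϖ) : Good (r ≫ p) ϖ := by
  induction hr with
  | iso e => exact hZ.of_iso e.hom
  | step ι b r hι hE hb hr ih =>
    rw [Category.assoc]
    exact (ih hZ).of_contraction hb

/-- The source of a contraction sequence over a Noetherian scheme is Noetherian. -/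
theorem isNoetherian_of_contraction {E Z W : Scheme.{u}} {ι : E ⟶ W} {b : W ⟶ Z} (hb : Models.IsContractionOf ι b) :
    IsNoetherian W := by
  obtain ⟨hN, hp, -⟩ := hb
  have h1 : IsLocallyNoetherian W := LocallyOfFiniteType.isLocallyNoetherian b
  have h2 : CompactSpace W := by
    have := Scheme.Hom.isProperMap b
    exact isCompact_univ_iff.1 (by simpa using this.isCompact_preimage (isCompact_univ (X := Z)))
  exact { toCompactSpace := h2 }

/-- **Descent along a contraction sequence.** -/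
theorem descend {T : Scheme.{u}} (q : T ⟶ Spec (CommRingCat.of R)) (ϖ : R)
    (P : ∀ {Z : Scheme.{u}}, (Z ⟶ Spec (CommRingCat.of R)) → Prop)
    (hP : ∀ {E W Z : Scheme.{u}} (ι : E ⟶ W) (b : W ⟶ Z) (p : Z ⟶ Spec (CommRingCat.of R)),
      IsClosedImmersion ι → Models.IsExcCurve ι → Models.IsContractionOf ι b → P p → P (b ≫ p))
    (hPi : ∀ {W Z : Scheme.{u}} (b : W ⟶ Z) (p : Z ⟶ Spec (CommRingCat.of R)), IsIso b → P p → P (b ≫ p))
    (H : ∀ {E W Z : Scheme.{u}} (ι : E ⟶ W) (b : W ⟶ Z) (p : Z ⟶ Spec (CommRingCat.of R)) (g : W ⟶ T),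
      IsClosedImmersion ι → Models.IsExcCurve ι → Models.IsContractionOf ι b → IsNoetherian W → P p → Good p ϖ →
      Good (b ≫ p) ϖ → g ≫ q = b ≫ p →
      (∃ F : Finset W, F.card ≤ 2 ∧ ∀ w ∈ Set.range ι, w ∉ F → NC1 (DualGr.stalkHom (b ≫ p) w ϖ)) →
      ∃ t, Set.range ((ι ≫ g).base : E → T) = {t})
    {W Z : Scheme.{u}} (r : W ⟶ Z) (hr : Models.IsContractionSeq r) (p : Z ⟶ Spec (CommRingCat.of R))
    (hp : P p) (hZ : Good p ϖ) (g : W ⟶ T) (hg : g ≫ q = r ≫ p) : ∃ g' : Z ⟶ T, r ≫ g' = g ∧ g' ≫ q = p := by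
  have key : ∀ {W Z : Scheme.{u}} (r : W ⟶ Z), Models.IsContractionSeq r → ∀ (p : Z ⟶ Spec (CommRingCat.of R)),
      P p → Good p ϖ → P (r ≫ p) ∧ ∀ (g : W ⟶ T), g ≫ q = r ≫ p → ∃ g' : Z ⟶ T, r ≫ g' = g ∧ g' ≫ q = p := by
    intro W Z r hr
    induction hr with
    | iso e =>
      intro p hp _
      refine ⟨hPi e.hom p inferInstance hp, fun g hg => ⟨e.inv ≫ g, by simp, by rw [Category.assoc, hg]; simp⟩⟩
    | @step W Z X E ι b r hι hE hb hr ih =>
      intro p hp hX
      obtain ⟨hPr, ih⟩ := ih p hp hX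
      have hGr : Good (r ≫ p) ϖ := hX.of_seq hr
      have hN := isNoetherian_of_contraction hb
      refine ⟨by rw [Category.assoc]; exact hP ι b (r ≫ p) hι hE hb hPr, fun g hg => ?_⟩
      have hg' : g ≫ q = b ≫ r ≫ p := by rw [hg, Category.assoc]
      have hF : ∃ F : Finset W, F.card ≤ 2 ∧
          ∀ w ∈ Set.range ι, w ∉ F → NC1 (DualGr.stalkHom (b ≫ r ≫ p) w ϖ) := by
        obtain ⟨-, hbp, y, hy, hEy, hreg, hdim, hbl⟩ := hb
        obtain ⟨-, -, h3⟩ := hGr y hy hdim
        obtain ⟨F, hF, h⟩ := exists_two (r ≫ p) b ϖ y hy hbl h3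
        refine ⟨F, hF, ?_⟩
        rintro w ⟨e, rfl⟩ hw
        refine h _ ?_ hw
        have h1 : (ι ≫ b) e ∈ Set.range ((ι ≫ b).base : E → Z) := ⟨e, rfl⟩
        rw [hEy] at h1
        exact h1
      obtain ⟨t, ht⟩ := H ι b (r ≫ p) g hι hE hb hN hPr hGr (hGr.of_contraction hb) hg' hF
      obtain ⟨ψ, hψ, -⟩ := Groth.Agent.S7307.result ι hE b hb g t ht
      have hψq : ψ ≫ q = r ≫ p := by
        obtain ⟨-, hbp, y, hy, hEy, -⟩ := id hb
        have hrange : Set.range ((ι ≫ b ≫ r ≫ p).base : E → Spec (CommRingCat.of R)) = {(r ≫ p) y} := by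
          have h2 : Set.range ((ι ≫ b).base : E → Z) = {y} := hEy
          ext z
          constructor
          · rintro ⟨e, rfl⟩
            have h1 : (ι ≫ b) e ∈ Set.range ((ι ≫ b).base : E → Z) := ⟨e, rfl⟩
            rw [hEy] at h1
            have h3 : (ι ≫ b) e = y := h1
            rw [← h3, ← Scheme.Hom.comp_apply, Category.assoc]
            rfl
          · rintro rfl
            have h3 : y ∈ Set.range ((ι ≫ b).base : E → Z) := by rw [hEy]; rfl
            obtain ⟨e, he⟩ := h3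
            refine ⟨e, ?_⟩
            have h4 : (ι ≫ b) e = y := he
            rw [← h4, ← Scheme.Hom.comp_apply, Category.assoc]
        obtain ⟨χ, -, hχ⟩ := Groth.Agent.S7307.result ι hE b hb (b ≫ r ≫ p) _ hrange
        rw [hχ (ψ ≫ q) (by rw [← Category.assoc]; exact (congrArg (· ≫ q) hψ).trans hg'), hχ (r ≫ p) rfl]
      obtain ⟨g', hg1, hg2⟩ := ih ψ hψq
      exact ⟨g', by rw [Category.assoc, hg1]; exact hψ, hg2⟩
  exact (key r hr p hp hZ).2 g hg

end

end K111.NCStep
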