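import Groth.Agent.Models.K399.QFinal
import Groth.Agent.Dix.RegTwoDim
import Groth.Agent.CurvesC.RegNormal

/-!
# Finiteness of the bad fixed points of an automorphism of a regular model

`finite_nonprincipal`: for an ideal `I` of a Noetherian ring all whose localizations are regular of dimension at
most two, the localization of `I` is principal outside finitely many primes.

`bad_finite`: the augmentation ideals of an automorphism of a regular model of a curve are principal at all but
finitely many fixed points.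
-/

set_option autoImplicit false
universe u

open CategoryTheory CategoryTheory.Limits AlgebraicGeometry

namespace Groth.Agent.Models.K111.TBadFin

section Alg

variable {A : Type u} [CommRing A]

theorem map_eq_span (I : Ideal A) (q : Ideal A) [q.IsPrime] (a t : A) (ha : a ∈ I) (ht : t ∉ q)
    (h : ∀ b ∈ I, t * b ∈ Ideal.span {a}) :
    I.map (algebraMap A (Localization.AtPrime q)) = Ideal.span {algebraMap A (Localization.AtPrime q) a} := by
  apply le_antisymm
  · rw [Ideal.map_le_iff_le_comap]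
    intro b hb
    rw [Ideal.mem_comap]
    obtain ⟨c, hc⟩ := Ideal.mem_span_singleton'.mp (h b hb)
    have hu : IsUnit (algebraMap A (Localization.AtPrime q) t) :=
      IsLocalization.map_units (Localization.AtPrime q) (⟨t, ht⟩ : q.primeCompl)
    rw [← Ideal.unit_mul_mem_iff_mem _ hu, ← map_mul, ← hc, map_mul]
    exact Ideal.mul_mem_left _ _ (Ideal.mem_span_singleton_self _)
  · rw [Ideal.span_singleton_le_iff_mem]
    exact Ideal.mem_map_of_mem _ ha

theorem exists_of_isPrincipal [IsNoetherianRing A] (I : Ideal A) (q : Ideal A) [q.IsPrime]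
    (h : (I.map (algebraMap A (Localization.AtPrime q))).IsPrincipal) :
    ∃ a ∈ I, ∃ t, t ∉ q ∧ ∀ b ∈ I, t * b ∈ Ideal.span {a} := by
  obtain ⟨x, hx⟩ := h
  have hxI : x ∈ I.map (algebraMap A (Localization.AtPrime q)) := by
    rw [hx]; exact Submodule.mem_span_singleton_self x
  obtain ⟨⟨⟨a, ha⟩, s⟩, has⟩ := (IsLocalization.mem_map_algebraMap_iff q.primeCompl _).mp hxI
  dsimp only at has
  have hsu : IsUnit (algebraMap A (Localization.AtPrime q) s) := IsLocalization.map_units _ s
  have hspan : I.map (algebraMap A (Localization.AtPrime q)) =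
      Ideal.span {algebraMap A (Localization.AtPrime q) a} := by
    rw [← has, Ideal.span_singleton_mul_right_unit hsu]
    exact hx
  have hex : ∀ b ∈ I, ∃ t, t ∉ q ∧ t * b ∈ Ideal.span {a} := by
    intro b hb
    have h1 : algebraMap A (Localization.AtPrime q) b ∈ Ideal.span {algebraMap A (Localization.AtPrime q) a} := by
      rw [← hspan]; exact Ideal.mem_map_of_mem _ hb
    have h2 : algebraMap A (Localization.AtPrime q) b ∈
        (Ideal.span {a}).map (algebraMap A (Localization.AtPrime q)) := by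
      rwa [Ideal.map_span, Set.image_singleton]
    obtain ⟨⟨⟨c, hc⟩, u⟩, hcu⟩ := (IsLocalization.mem_map_algebraMap_iff q.primeCompl _).mp h2
    dsimp only at hcu
    rw [← map_mul] at hcu
    obtain ⟨v, hv⟩ := (IsLocalization.eq_iff_exists q.primeCompl (Localization.AtPrime q)).mp hcu
    refine ⟨v * u, fun hm => ?_, ?_⟩
    · rcases (Ideal.IsPrime.mem_or_mem inferInstance hm) with h3 | h3
      · exact v.2 h3
      · exact u.2 h3
    · have h4 : (v : A) * u * b = v * (b * u) := by ring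
      rw [h4, hv]
      exact Ideal.mul_mem_left _ _ hc
  obtain ⟨S, hS⟩ := I.fg_of_isNoetherianRing
  choose! f hf1 hf2 using hex
  have hSI : ∀ b ∈ S, b ∈ I := fun b hb => by rw [← hS]; exact Ideal.subset_span hb
  refine ⟨a, ha, ∏ b ∈ S, f b, fun hm => ?_, ?_⟩
  · obtain ⟨b, hb, hb'⟩ := (Ideal.IsPrime.prod_mem_iff (p := q)).mp hm
    exact hf1 b (hSI b hb) hb'
  · intro b hb
    rw [← hS] at hb
    have hle : Ideal.span (S : Set A) ≤ Submodule.comap (LinearMap.mulLeft A (∏ b ∈ S, f b)) (Ideal.span {a}) := by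
      rw [Ideal.span_le]
      intro c hc
      change (∏ b ∈ S, f b) * c ∈ Ideal.span {a}
      obtain ⟨d, hd⟩ := Finset.dvd_prod_of_mem f hc
      rw [hd]
      have h4 : f c * d * c = d * (f c * c) := by ring
      rw [h4]
      exact Ideal.mul_mem_left _ _ (hf2 c (hSI c hc))
    exact hle hb

theorem isPrincipal_iff [IsNoetherianRing A] (I : Ideal A) (q : Ideal A) [q.IsPrime] :
    (I.map (algebraMap A (Localization.AtPrime q))).IsPrincipal ↔
      ∃ a ∈ I, ∃ t, t ∉ q ∧ ∀ b ∈ I, t * b ∈ Ideal.span {a} := by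
  refine ⟨exists_of_isPrincipal I q, ?_⟩
  rintro ⟨a, ha, t, ht, h⟩
  rw [map_eq_span I q a t ha ht h]
  exact ⟨_, rfl⟩

theorem isPrincipal_of_le [IsNoetherianRing A] (I : Ideal A) (p q : Ideal A) [p.IsPrime] [q.IsPrime] (hpq : p ≤ q)
    (h : (I.map (algebraMap A (Localization.AtPrime q))).IsPrincipal) :
    (I.map (algebraMap A (Localization.AtPrime p))).IsPrincipal := by
  rw [isPrincipal_iff] at h ⊢
  obtain ⟨a, ha, t, ht, h⟩ := h
  exact ⟨a, ha, t, fun hm => ht (hpq hm), h⟩

/-- The ideal cutting out the non-principal locus. -/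
def badIdeal (I : Ideal A) : Ideal A := Ideal.span {t | ∃ a ∈ I, ∀ b ∈ I, t * b ∈ Ideal.span {a}}

theorem badIdeal_le_iff [IsNoetherianRing A] (I : Ideal A) (q : Ideal A) [q.IsPrime] :
    badIdeal I ≤ q ↔ ¬ (I.map (algebraMap A (Localization.AtPrime q))).IsPrincipal := by
  rw [isPrincipal_iff, badIdeal, Ideal.span_le]
  constructor
  · rintro h ⟨a, ha, t, ht, h'⟩
    exact ht (h ⟨a, ha, h'⟩)
  · rintro h t ⟨a, ha, h'⟩
    by_contra ht
    exact h ⟨a, ha, t, ht, h'⟩

theorem finite_nonprincipal [IsNoetherianRing A]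
    (hreg : ∀ p : PrimeSpectrum A, IsRegularLocalRing (Localization.AtPrime p.asIdeal))
    (hdim : ∀ p : PrimeSpectrum A, ringKrullDim (Localization.AtPrime p.asIdeal) ≤ 2) (I : Ideal A) :
    {p : PrimeSpectrum A | ¬ (I.map (algebraMap A (Localization.AtPrime p.asIdeal))).IsPrincipal}.Finite := by
  have hheight : ∀ p : PrimeSpectrum A, ¬ (I.map (algebraMap A (Localization.AtPrime p.asIdeal))).IsPrincipal →
      ∀ q : PrimeSpectrum A, p.asIdeal ≤ q.asIdeal → p.asIdeal = q.asIdeal := by
    intro p hp q hpq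
    by_contra hne
    apply hp
    have hlt : p.asIdeal < q.asIdeal := lt_of_le_of_ne hpq hne
    have hq := hdim q
    rw [IsLocalization.AtPrime.ringKrullDim_eq_height q.asIdeal] at hq
    have hq' : q.asIdeal.height ≤ 2 := WithBot.coe_le_coe.mp hq
    have h1 : p.asIdeal.height < q.asIdeal.height := Ideal.height_strict_mono_of_isPrime_of_isPrime hlt
    have h2 : p.asIdeal.height ≤ 1 := by
      have h3 := h1.trans_le hq'
      have h4 : (2 : ℕ∞) = 1 + 1 := by norm_num
      rw [h4] at h3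
      exact (ENat.lt_add_one_iff (by simp)).mp h3
    have h5 : ringKrullDim (Localization.AtPrime p.asIdeal) ≤ 1 := by
      rw [IsLocalization.AtPrime.ringKrullDim_eq_height p.asIdeal]
      exact_mod_cast h2
    have := hreg p
    exact (Dix.RegTwoDim.isPrincipalIdealRing _ h5).principal _
  have hfin := Ideal.finite_minimalPrimes_of_isNoetherianRing A (badIdeal I)
  refine (hfin.preimage (f := PrimeSpectrum.asIdeal) (fun a _ b _ h => PrimeSpectrum.ext h)).subset ?_
  intro p hp
  change ¬ _ at hp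
  rw [Set.mem_preimage]
  refine ⟨⟨p.2, (badIdeal_le_iff I p.asIdeal).mpr hp⟩, ?_⟩
  rintro q ⟨hq, hq'⟩ hqp
  have := hq
  exact (hheight ⟨q, hq⟩ ((badIdeal_le_iff I q).mp hq') p hqp).ge

end Alg

section Geo

open Groth.Agent.Models.K399.QReg Groth.Agent.Models.K399.QStalk

/-- At a fixed point the augmentation ideal is generated by the `σ a - a`, `a` in an affine neighbourhood. -/
theorem augIdeal_eq {X : Scheme.{u}} (σ : X ⟶ X) {U V : X.Opens} (hU : IsAffineOpen U) (hVU : V ≤ U)
    (hVσ : V ≤ σ ⁻¹ᵁ U) (z : X) (hz : σ z = z) (hzV : z ∈ V) :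
    augIdeal σ z hz = (Ideal.span (Set.range fun a : Γ(X, U) =>
      X.presheaf.map (homOfLE hVσ).op (σ.app U a) - X.presheaf.map (homOfLE hVU).op a)).map
        (X.presheaf.germ V z hzV).hom := by
  have hzU : z ∈ U := hVU hzV
  have hact : ∀ a : Γ(X, U), stalkAct σ z hz (X.presheaf.germ U z hzU a) =
      X.presheaf.germ V z hzV (X.presheaf.map (homOfLE hVσ).op (σ.app U a)) := by
    intro a
    rw [stalkAct_germ σ z hz U hzU a]
    exact (TopCat.Presheaf.germ_res_apply X.presheaf (homOfLE hVσ) z hzV (σ.app U a)).symm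
  have hres : ∀ a : Γ(X, U), X.presheaf.germ U z hzU a =
      X.presheaf.germ V z hzV (X.presheaf.map (homOfLE hVU).op a) := by
    intro a
    exact (TopCat.Presheaf.germ_res_apply X.presheaf (homOfLE hVU) z hzV a).symm
  have hmem : ∀ a : Γ(X, U), stalkAct σ z hz (X.presheaf.germ U z hzU a) - X.presheaf.germ U z hzU a ∈
      (Ideal.span (Set.range fun a : Γ(X, U) =>
      X.presheaf.map (homOfLE hVσ).op (σ.app U a) - X.presheaf.map (homOfLE hVU).op a)).map
        (X.presheaf.germ V z hzV).hom := by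
    intro a
    rw [hact, hres]
    have h1 := Ideal.mem_map_of_mem (X.presheaf.germ V z hzV).hom (Ideal.subset_span (Set.mem_range_self (f :=
      fun a : Γ(X, U) => X.presheaf.map (homOfLE hVσ).op (σ.app U a) - X.presheaf.map (homOfLE hVU).op a) a))
    rw [map_sub] at h1
    exact h1
  apply le_antisymm
  · rw [augIdeal, Ideal.span_le]
    rintro _ ⟨b, rfl⟩
    let := TopCat.Presheaf.algebra_section_stalk X.presheaf ⟨z, hzU⟩
    have := hU.isLocalization_stalk ⟨z, hzU⟩
    obtain ⟨⟨a, s⟩, has⟩ := IsLocalization.surj (hU.primeIdealOf ⟨z, hzU⟩).asIdeal.primeCompl b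
    have hs : IsUnit (X.presheaf.germ U z hzU s) :=
      IsLocalization.map_units (M := (hU.primeIdealOf ⟨z, hzU⟩).asIdeal.primeCompl) (X.presheaf.stalk z) s
    have has' : b * X.presheaf.germ U z hzU s = X.presheaf.germ U z hzU a := has
    have hs' : IsUnit (stalkAct σ z hz (X.presheaf.germ U z hzU s)) := hs.map _
    refine (Ideal.mul_unit_mem_iff_mem _ hs').mp ?_
    have h1 : stalkAct σ z hz b * stalkAct σ z hz (X.presheaf.germ U z hzU s) =
        stalkAct σ z hz (X.presheaf.germ U z hzU a) := by rw [← map_mul, has']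
    have h2 : (stalkAct σ z hz b - b) * stalkAct σ z hz (X.presheaf.germ U z hzU s) =
        (stalkAct σ z hz (X.presheaf.germ U z hzU a) - X.presheaf.germ U z hzU a) -
        b * (stalkAct σ z hz (X.presheaf.germ U z hzU s) - X.presheaf.germ U z hzU s) := by
      rw [← h1, ← has']
      ring
    rw [h2]
    exact Ideal.sub_mem _ (hmem a) (Ideal.mul_mem_left _ _ (hmem s))
  · rw [Ideal.map_le_iff_le_comap, Ideal.span_le]
    rintro _ ⟨a, rfl⟩
    change X.presheaf.germ V z hzV _ ∈ augIdeal σ z hz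
    rw [map_sub]
    erw [← hact, ← hres]
    exact Ideal.subset_span ⟨_, rfl⟩

/-- On an affine open the bad fixed points are finite in number. -/
theorem finite_on {X : Scheme.{u}} [IsLocallyNoetherian X] (σ : X ⟶ X)
    (hreg : ∀ x : X, IsRegularLocalRing (X.presheaf.stalk x))
    (hdim : ∀ x : X, ringKrullDim (X.presheaf.stalk x) ≤ 2)
    {U V : X.Opens} (hU : IsAffineOpen U) (hV : IsAffineOpen V) (hVU : V ≤ U) (hVσ : V ≤ σ ⁻¹ᵁ U) :
    {z : X | z ∈ V ∧ ∃ hz : σ z = z, ¬ (augIdeal σ z hz).IsPrincipal}.Finite := by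
  have hnoeth : IsNoetherianRing Γ(X, V) := IsLocallyNoetherian.component_noetherian ⟨V, hV⟩
  let I : Ideal Γ(X, V) := Ideal.span (Set.range fun a : Γ(X, U) =>
      X.presheaf.map (homOfLE hVσ).op (σ.app U a) - X.presheaf.map (homOfLE hVU).op a)
  have hpt : ∀ Q : PrimeSpectrum Γ(X, V), ∃ (z : X) (hz : z ∈ V), hV.primeIdealOf ⟨z, hz⟩ = Q := by
    intro Q
    have hz : hV.fromSpec Q ∈ V := hV.range_fromSpec.le ⟨Q, rfl⟩
    refine ⟨hV.fromSpec Q, hz, ?_⟩
    apply hV.fromSpec.isOpenEmbedding.injective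
    exact hV.fromSpec_primeIdealOf _
  have hequiv : ∀ (z : X) (hz : z ∈ V), ∃ e : X.presheaf.stalk z ≃+*
      Localization.AtPrime (hV.primeIdealOf ⟨z, hz⟩).asIdeal,
      e.toRingHom.comp (X.presheaf.germ V z hz).hom = algebraMap _ _ := by
    intro z hz
    let := TopCat.Presheaf.algebra_section_stalk X.presheaf ⟨z, hz⟩
    have := hV.isLocalization_stalk ⟨z, hz⟩
    let e := IsLocalization.algEquiv (hV.primeIdealOf ⟨z, hz⟩).asIdeal.primeCompl
        (X.presheaf.stalk z) (Localization.AtPrime (hV.primeIdealOf ⟨z, hz⟩).asIdeal)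
    refine ⟨e.toRingEquiv, ?_⟩
    ext a
    exact e.commutes a
  have hfin := finite_nonprincipal (A := Γ(X, V)) (fun Q => by
      obtain ⟨z, hz, rfl⟩ := hpt Q
      obtain ⟨e, -⟩ := hequiv z hz
      have := hreg z
      exact IsRegularLocalRing.of_ringEquiv e) (fun Q => by
      obtain ⟨z, hz, rfl⟩ := hpt Q
      obtain ⟨e, -⟩ := hequiv z hz
      rw [← ringKrullDim_eq_of_ringEquiv e]
      exact hdim z) I
  refine (hfin.image hV.fromSpec).subset ?_
  rintro z ⟨hzV, hz, hp⟩
  refine ⟨hV.primeIdealOf ⟨z, hzV⟩, fun hprin => hp ?_, hV.fromSpec_primeIdealOf _⟩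
  obtain ⟨e, he⟩ := hequiv z hzV
  have h1 : augIdeal σ z hz = I.map (X.presheaf.germ V z hzV).hom := augIdeal_eq σ hU hVU hVσ z hz hzV
  obtain ⟨x, hx⟩ := hprin
  rw [← he, ← Ideal.map_map, ← h1] at hx
  refine ⟨e.symm x, ?_⟩
  have h2 : ((augIdeal σ z hz).map e.toRingHom).map e.symm.toRingHom = augIdeal σ z hz := by
    rw [Ideal.map_map]
    have h3 : e.symm.toRingHom.comp e.toRingHom = RingHom.id _ := by
      ext; simp
    rw [h3, Ideal.map_id]
  rw [← h2, hx]
  change Ideal.map e.symm.toRingHom (Ideal.span {x}) = Ideal.span {e.symm x}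
  rw [Ideal.map_span, Set.image_singleton]
  rfl

open Groth.Agent.Models.K399.QFinal

theorem bad_finite {R : Type u} [CommRing R] [IsDomain R] [IsDiscreteValuationRing R] {X : Scheme.{u}}
    {fX : X ⟶ Spec (CommRingCat.of (FractionRing R))} {σ : X ≅ X} {XR : Scheme.{u}}
    {p : XR ⟶ Spec (CommRingCat.of R)} {j : X ⟶ XR} {τ : XR ≅ XR} (hM : Model X fX σ XR p j τ)
    (hdX : ∀ c : X, ringKrullDim (X.presheaf.stalk c) ≤ 1) {n : ℕ} (_hn : 0 < n)
    (_hpow : (show Aut XR from τ) ^ n = 1) :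
    {z : XR | ∃ hz : τ.hom z = z, ¬ (augIdeal τ.hom z hz).IsPrincipal}.Finite := by
  have := hM.proper
  have := hM.flat
  have hdom : ∀ x : XR, IsDomain (XR.presheaf.stalk x) := fun x => by
    have := hM.regular x
    exact CurvesC.RegNormal.isDomain _
  have hdim := K382.AdmBase.ringKrullDim_stalk_le_two hM.pullback hdom hdX
  have hln : IsLocallyNoetherian XR := LocallyOfFiniteType.isLocallyNoetherian p
  have hcpt : CompactSpace XR := QuasiCompact.compactSpace_of_compactSpace p
  have hsep : IsSeparated p := inferInstance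
  have hXsep : XR.IsSeparated := by
    rw [Scheme.isSeparated_iff]
    have h1 : terminal.from XR = p ≫ terminal.from _ := Subsingleton.elim _ _
    rw [h1]
    infer_instance
  have hcov : ∀ x : XR, ∃ W : XR.Opens, x ∈ W ∧ {z : XR | z ∈ W ∧ ∃ hz : τ.hom z = z,
      ¬ (augIdeal τ.hom z hz).IsPrincipal}.Finite := by
    intro x
    obtain ⟨U, hU, hx⟩ := Groth.Agent.Sga1.QuotBasic.exists_affine_mem x
    have hV : IsAffineOpen (U ⊓ τ.hom ⁻¹ᵁ U) := hU.inf (hU.preimage τ.hom)
    refine ⟨U, hx, (finite_on τ.hom hM.regular hdim hU hV inf_le_left inf_le_right).subset ?_⟩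
    rintro z ⟨hzU, hz, hp⟩
    exact ⟨⟨hzU, show τ.hom z ∈ U by rw [hz]; exact hzU⟩, hz, hp⟩
  choose W hxW hW using hcov
  obtain ⟨t, ht⟩ := CompactSpace.elim_nhds_subcover (fun x => (W x : Set XR))
    (fun x => (W x).isOpen.mem_nhds (hxW x))
  refine ((t.finite_toSet).biUnion (fun x _ => hW x)).subset ?_
  intro z hz
  have h1 : z ∈ ⋃ x ∈ t, (W x : Set XR) := by rw [ht]; trivial
  obtain ⟨x, hx, hzx⟩ := Set.mem_iUnion₂.mp h1
  exact Set.mem_iUnion₂.mpr ⟨x, hx, hzx, hz⟩

end Geo

end Groth.Agent.Models.K111.TBadFin
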